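import Groth.Agent.Gor.InjDim
import Groth.Agent.InjHull.Matlis
import Groth.Agent.Depth.CM

/-!
# Gorenstein local rings: structure

* `gorenstein_structure`: finite injective dimension forces Cohen–Macaulay and
  injective dimension at most the Krull dimension.
* `gorenstein_quotient_iff`: reduction modulo a regular element.
* zero-dimensional case: injective = simple socle.
-/

set_option autoImplicit false

universe u

open CategoryTheory Abelian IsLocalRing

namespace Groth.Agent.Gor.Basic

open Groth.Agent.InjHull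

variable {A : Type u} [CommRing A]

theorem exists_natCast_ringKrullDim [IsLocalRing A] [IsNoetherianRing A] :
    ∃ d : ℕ, ringKrullDim A = d := by
  obtain ⟨n, hn, -⟩ := RegLoc.exists_natCast_eq_ringKrullDim A
  exact ⟨n, hn⟩

theorem exists_hasInjectiveDimensionLT [h : LocCoh.IsGorensteinLocalRing A] :
    ∃ n : ℕ, HasInjectiveDimensionLT (ModuleCat.of A A) (n + 1) := by
  obtain ⟨n, hn⟩ := h.exists_hasInjectiveDimensionLT
  exact ⟨n, hasInjectiveDimensionLT_of_ge _ n (n + 1) n.le_succ⟩

variable [IsLocalRing A] [IsNoetherianRing A]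

theorem exists_regular_or_socle :
    (∃ x ∈ maximalIdeal A, IsSMulRegular A x) ∨
      ∃ φ : ResidueField A →ₗ[A] A, Function.Injective φ := by
  by_cases h : ∃ p ∈ associatedPrimes A A, maximalIdeal A ≤ p
  · obtain ⟨p, hp, hmp⟩ := h
    have hp' : p = maximalIdeal A :=
      (IsLocalRing.maximalIdeal.isMaximal A).eq_of_le
        (Depth.isPrime_of_mem_associatedPrimes hp).ne_top hmp |>.symm
    subst hp'
    obtain ⟨-, φ, hφ⟩ := (isAssociatedPrime_iff_exists_injective_linearMap _ A).mp hp
    exact Or.inr ⟨φ, hφ⟩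
  · push Not at h
    exact Or.inl (Depth.exists_isSMulRegular_of_forall_not_le h)

theorem smul_ext_residue_eq_zero {x : A} (hx : x ∈ maximalIdeal A) {M : ModuleCat.{u} A} {i : ℕ}
    (z : Ext (ModuleCat.of A (ResidueField A)) M i) : x • z = 0 := by
  have h0 : x • 𝟙 (ModuleCat.of A (ResidueField A)) = 0 := by
    ext c
    exact Matlis.residue_smul_eq_zero hx c
  have h1 : x • z = (Ext.mk₀ (x • 𝟙 (ModuleCat.of A (ResidueField A)))).comp z (zero_add i) := by
    simp [Ext.mk₀_smul]
  rw [h1, h0, Ext.mk₀_zero, Ext.zero_comp]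

/-- Depth zero plus finite injective dimension: self-injective. -/
theorem injective_of_socle_of_finite_id {φ : ResidueField A →ₗ[A] A} (hφ : Function.Injective φ) :
    ∀ n : ℕ, HasInjectiveDimensionLT (ModuleCat.of A A) (n + 1) → Module.Injective A A := by
  intro n
  induction n with
  | zero =>
    intro h
    exact Module.injective_module_of_injective_object
      (inj := injective_iff_hasInjectiveDimensionLT_one.mpr h) A A
  | succ n ih =>
    intro h
    refine ih (InjDim.hasInjectiveDimensionLT_of_residue A n fun i hi => ?_)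
    refine subsingleton_of_forall_eq 0 fun e => ?_
    have hS : (ModuleCat.shortComplexOfCompEqZero φ (LinearMap.range φ).mkQ
        (LinearMap.range_mkQ_comp φ)).ShortExact :=
      ModuleCat.shortComplex_shortExact _ (LinearMap.exact_map_mkQ_range φ) hφ
        (Submodule.mkQ_surjective _)
    obtain ⟨x₂, rfl⟩ := Ext.contravariant_sequence_exact₁ hS (ModuleCat.of A A) e (add_comm 1 i)
      (Ext.eq_zero_of_hasInjectiveDimensionLT _ (n + 1 + 1) (by omega))
    obtain ⟨j, rfl⟩ : ∃ j, i = j + 1 := ⟨i - 1, by omega⟩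
    have hproj : Projective (ModuleCat.shortComplexOfCompEqZero φ (LinearMap.range φ).mkQ
        (LinearMap.range_mkQ_comp φ)).X₂ :=
      inferInstanceAs (Projective (ModuleCat.of A A))
    rw [Ext.eq_zero_of_projective x₂, Ext.comp_zero]

omit [IsNoetherianRing A] in
theorem hull_of_injective {φ : ResidueField A →ₗ[A] A} (hφ : Function.Injective φ)
    (hA : Module.Injective A A) : _root_.InjHull.IsInjectiveHull φ := by
  have hind : _root_.InjHull.IsIndecomposable A A := by
    refine ⟨inferInstance, fun N N' hc => ?_⟩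
    obtain ⟨a, ha, b, hb, hab⟩ := Submodule.mem_sup.mp (hc.sup_eq_top ▸ Submodule.mem_top (x := (1 : A)))
    rcases IsLocalRing.isUnit_or_isUnit_of_add_one hab with h | h
    · right
      have : N = ⊤ := Ideal.eq_top_of_isUnit_mem N ha h
      simpa [this] using hc.inf_eq_bot
    · left
      have : N' = ⊤ := Ideal.eq_top_of_isUnit_mem N' hb h
      simpa [this] using hc.inf_eq_bot
  have hne : LinearMap.range φ ≠ ⊥ := by
    rw [ne_eq, LinearMap.range_eq_bot]
    intro h0
    exact one_ne_zero (α := ResidueField A) (hφ (by simp [h0]))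
  exact ⟨InjHull.Basic.isEssentialInj_iff.mpr ⟨hφ, fun x hx =>
    (InjHull.Basic.uniform_of_indecomposable hind hA hne).2 x trivial hx⟩, hA⟩

theorem artinian_of_injective {φ : ResidueField A →ₗ[A] A} (hφ : Function.Injective φ)
    (hA : Module.Injective A A) : IsArtinianRing A :=
  Matlis.isArtinian_hull (hull_of_injective hφ hA)

variable (A) in
/-- The maximal ideal quotient by a single element. -/
theorem isLocalRing_quotient {x : A} (hx : x ∈ maximalIdeal A) : IsLocalRing (A ⧸ Ideal.span {x}) := by
  have : Nontrivial (A ⧸ Ideal.span {x}) :=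
    Ideal.Quotient.nontrivial_iff.mpr fun h => (IsLocalRing.maximalIdeal.isMaximal A).ne_top
      (top_le_iff.mp (h ▸ (Ideal.span_singleton_le_iff_mem _).mpr hx))
  exact IsLocalRing.of_surjective' (Ideal.Quotient.mk _) Ideal.Quotient.mk_surjective

/-- `A/(x • ⊤)` is `A/(x)` -/
noncomputable def quotSelfEquiv (x : A) :
    (A ⧸ Ideal.span {x} • (⊤ : Submodule A A)) ≃ₗ[A ⧸ Ideal.span {x}] A ⧸ Ideal.span {x} :=
  let e : (A ⧸ Ideal.span {x} • (⊤ : Submodule A A)) ≃ₗ[A] A ⧸ Ideal.span {x} :=
    Submodule.quotEquivOfEq (Ideal.span {x} • (⊤ : Submodule A A)) (Ideal.span {x})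
      (by rw [smul_eq_mul, Ideal.mul_top])
  { e with
    map_smul' := fun c y => by
      obtain ⟨c, rfl⟩ := Ideal.Quotient.mk_surjective c
      exact e.map_smul c y }

omit [IsLocalRing A] [IsNoetherianRing A] in
theorem id_quotient_self {x : A} (hreg : IsSMulRegular A x) {n : ℕ}
    (h : HasInjectiveDimensionLT (ModuleCat.of A A) (n + 2)) :
    HasInjectiveDimensionLT (ModuleCat.of (A ⧸ Ideal.span {x}) (A ⧸ Ideal.span {x})) (n + 1) :=
  have := InjDim.id_quotient hreg A hreg h
  hasInjectiveDimensionLT_of_iso (quotSelfEquiv x).toModuleIso (n + 1)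

theorem id_of_quotient {x : A} (hx : x ∈ maximalIdeal A) (hreg : IsSMulRegular A x) {n : ℕ}
    (h : HasInjectiveDimensionLT (ModuleCat.of (A ⧸ Ideal.span {x}) (A ⧸ Ideal.span {x})) (n + 1)) :
    HasInjectiveDimensionLT (ModuleCat.of A A) (n + 2) := by
  have h2 : HasInjectiveDimensionLT (ModuleCat.of A (A ⧸ Ideal.span {x})) (n + 2) :=
    InjDim.id_restrict hreg n _ h
  refine InjDim.hasInjectiveDimensionLT_of_residue A (n + 1) fun i hi => ?_
  have hex : Function.Exact (x • LinearMap.id : A →ₗ[A] A) (Ideal.span {x}).mkQ := by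
    intro a
    rw [Submodule.mkQ_apply, Submodule.Quotient.mk_eq_zero, Ideal.mem_span_singleton']
    constructor
    · rintro ⟨c, rfl⟩
      exact ⟨c, by simp [mul_comm]⟩
    · rintro ⟨c, rfl⟩
      exact ⟨c, by simp [mul_comm]⟩
  have hS := ModuleCat.shortComplex_shortExact
    (ModuleCat.shortComplexOfCompEqZero (x • LinearMap.id : A →ₗ[A] A) (Ideal.span {x}).mkQ
      hex.linearMap_comp_eq_zero) hex hreg (Submodule.mkQ_surjective _)
  refine subsingleton_of_forall_eq 0 fun w => ?_
  obtain ⟨z, rfl⟩ := Ext.covariant_sequence_exact₂ _ hS w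
    (Ext.eq_zero_of_hasInjectiveDimensionLT _ (n + 2) hi)
  have hmk : ModuleCat.ofHom (x • LinearMap.id : A →ₗ[A] A) = x • 𝟙 (ModuleCat.of A A) := rfl
  change z.comp (Ext.mk₀ (ModuleCat.ofHom (x • LinearMap.id : A →ₗ[A] A))) (add_zero i) = 0
  rw [hmk, Ext.mk₀_smul, Ext.comp_smul, Ext.comp_mk₀_id, smul_ext_residue_eq_zero hx]

theorem isCohenMacaulay_of_quotient {x : A} (hx : x ∈ maximalIdeal A) (hreg : IsSMulRegular A x)
    (h : LocCoh.IsCohenMacaulayLocalRing (A ⧸ Ideal.span {x})) :
    LocCoh.IsCohenMacaulayLocalRing A := by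
  have := isLocalRing_quotient A hx
  have h1 : LocCoh.IsCohenMacaulayModule A (A ⧸ Ideal.span {x}) :=
    (Depth.isCohenMacaulayModule_iff_of_surjective (R := A) (S := A ⧸ Ideal.span {x})
      (N := A ⧸ Ideal.span {x}) Ideal.Quotient.mk_surjective).mp h.supportDim_eq_depth
  have e : QuotSMulTop x A ≃ₗ[A] A ⧸ Ideal.span {x} :=
    Submodule.quotEquivOfEq _ _ (by
      rw [← Submodule.ideal_span_singleton_smul, smul_eq_mul, Ideal.mul_top])
  have := Ideal.Quotient.nontrivial_iff (I := Ideal.span {x}).mp inferInstance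
  exact Depth.isCohenMacaulayLocalRing_iff.mpr
    ((Depth.isCohenMacaulayModule_quotSMulTop_iff hx hreg).mp
      ((Depth.isCohenMacaulayModule_congr e).mpr h1))

theorem depth_eq_zero {φ : ResidueField A →ₗ[A] A} (hφ : Function.Injective φ) :
    LocCoh.depth A A = 0 := by
  refine (Depth.idealDepth_eq_zero_iff).mpr ?_
  exact ⟨maximalIdeal A, (isAssociatedPrime_iff_exists_injective_linearMap _ A).mpr
    ⟨inferInstance, φ, hφ⟩, le_rfl⟩

theorem isCohenMacaulay_of_injective {φ : ResidueField A →ₗ[A] A} (hφ : Function.Injective φ)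
    (hA : Module.Injective A A) : LocCoh.IsCohenMacaulayLocalRing A := by
  have := artinian_of_injective hφ hA
  refine Depth.isCohenMacaulayLocalRing_iff.mpr ?_
  rw [LocCoh.IsCohenMacaulayModule, depth_eq_zero hφ, Module.supportDim_self_eq_ringKrullDim]
  exact ringKrullDimZero_iff_ringKrullDim_eq_zero.mp inferInstance

theorem gorenstein_structure : ∀ (d : ℕ) (A : Type u) [CommRing A] [IsLocalRing A]
    [IsNoetherianRing A] (n : ℕ), HasInjectiveDimensionLT (ModuleCat.of A A) (n + 1) →
      ringKrullDim A = d →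
      LocCoh.IsCohenMacaulayLocalRing A ∧ HasInjectiveDimensionLT (ModuleCat.of A A) (d + 1) := by
  intro d
  induction d using Nat.strong_induction_on with
  | _ d ih =>
    intro A _ _ _ n hn hd
    rcases exists_regular_or_socle (A := A) with ⟨x, hx, hreg⟩ | ⟨φ, hφ⟩
    · have := isLocalRing_quotient A hx
      obtain ⟨e, he⟩ := exists_natCast_ringKrullDim (A := A ⧸ Ideal.span {x})
      have hde : d = e + 1 := by
        have := ringKrullDim_quotient_span_singleton_succ_eq_ringKrullDim hreg hx
        rw [he, hd] at this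
        exact_mod_cast this.symm
      subst hde
      obtain ⟨hCM, hid⟩ := ih e (Nat.lt_succ_self e) (A ⧸ Ideal.span {x}) n
        (id_quotient_self hreg (hasInjectiveDimensionLT_of_ge _ (n + 1) (n + 2) (by omega))) he
      exact ⟨isCohenMacaulay_of_quotient hx hreg hCM, id_of_quotient hx hreg hid⟩
    · have hA := injective_of_socle_of_finite_id hφ n hn
      refine ⟨isCohenMacaulay_of_injective hφ hA, ?_⟩
      have : Injective (ModuleCat.of A A) := Module.injective_object_of_injective_module (inj := hA) A A
      exact hasInjectiveDimensionLT_of_ge _ 1 (d + 1) (by omega)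

variable (A) in
theorem isCohenMacaulay_of_gorenstein [LocCoh.IsGorensteinLocalRing A] :
    LocCoh.IsCohenMacaulayLocalRing A := by
  obtain ⟨n, hn⟩ := exists_hasInjectiveDimensionLT (A := A)
  obtain ⟨d, hd⟩ := exists_natCast_ringKrullDim (A := A)
  exact (gorenstein_structure d A n hn hd).1

theorem hasInjectiveDimensionLT_dim [LocCoh.IsGorensteinLocalRing A] {d : ℕ}
    (hd : ringKrullDim A = d) : HasInjectiveDimensionLT (ModuleCat.of A A) (d + 1) := by
  obtain ⟨n, hn⟩ := exists_hasInjectiveDimensionLT (A := A)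
  exact (gorenstein_structure d A n hn hd).2

theorem gorenstein_mk {n : ℕ} (h : HasInjectiveDimensionLT (ModuleCat.of A A) n) :
    LocCoh.IsGorensteinLocalRing A :=
  { exists_hasInjectiveDimensionLT := ⟨n, h⟩ }

theorem gorenstein_of_injective (h : Module.Injective A A) : LocCoh.IsGorensteinLocalRing A :=
  have : Injective (ModuleCat.of A A) := Module.injective_object_of_injective_module (inj := h) A A
  gorenstein_mk (n := 1) inferInstance

theorem gorenstein_quotient_iff {x : A} (hx : x ∈ maximalIdeal A) (hreg : IsSMulRegular A x) :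
    LocCoh.IsGorensteinLocalRing A ↔ LocCoh.IsGorensteinLocalRing (A ⧸ Ideal.span {x}) := by
  have := isLocalRing_quotient A hx
  constructor
  · intro h
    obtain ⟨n, hn⟩ := exists_hasInjectiveDimensionLT (A := A)
    exact gorenstein_mk (id_quotient_self hreg (hasInjectiveDimensionLT_of_ge _ (n + 1) (n + 2) (by omega)))
  · intro h
    obtain ⟨n, hn⟩ := exists_hasInjectiveDimensionLT (A := A ⧸ Ideal.span {x})
    exact gorenstein_mk (id_of_quotient hx hreg hn)

/-- zero-dimensional with simple socle is self-injective -/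
theorem injective_of_simple_socle [IsArtinianRing A]
    (hsoc : Module.length A (LocCoh.torsionBy (maximalIdeal A) A) = 1) : Module.Injective A A := by
  obtain ⟨E, _, _, h, hh⟩ := InjHull.Basic.exists_isInjectiveHull A (ResidueField A)
  let V := LocCoh.torsionBy (maximalIdeal A) A
  have hVs : IsSimpleModule A V := Module.length_eq_one_iff.mp hsoc
  obtain ⟨m, hm, ⟨e⟩⟩ := isSimpleModule_iff_quot_maximal.mp hVs
  obtain rfl : m = maximalIdeal A := IsLocalRing.eq_maximalIdeal hm
  obtain ⟨g, hg⟩ := InjHull.Basic.extend hh.isInjective V.subtype V.injective_subtype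
    (h.comp e.toLinearMap)
  have hpt : LocCoh.IsPowerTorsion (maximalIdeal A) A := fun a => by
    have : IsArtinian A A := ‹IsArtinianRing A›
    exact Matlis.isPowerTorsion_of_isArtinian A a
  have hginj : Function.Injective g := Matlis.injective_of_socle hpt g fun a ha h0 => by
    have haV : a ∈ V := (Submodule.mem_torsionBySet_iff _ _).mpr fun b => ha b b.2
    have hv : h (e ⟨a, haV⟩) = 0 := (LinearMap.congr_fun hg ⟨a, haV⟩).symm.trans h0
    have := e.injective ((hh.injective (hv.trans (map_zero h).symm)).trans (map_zero e).symm)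
    exact congrArg Subtype.val this
  have hfin : IsFiniteLength A A :=
    isFiniteLength_iff_isNoetherian_isArtinian.mpr ⟨inferInstance, ‹IsArtinianRing A›⟩
  have hE : Module.length A E = Module.length A A :=
    ((LinearMap.ringLmapEquivSelf A A E).length_eq).symm.trans (Matlis.length_dual hh hfin)
  have h3 := Module.length_eq_add_of_exact g (LinearMap.range g).mkQ hginj
    (Submodule.mkQ_surjective _) (LinearMap.exact_map_mkQ_range g)
  rw [hE] at h3
  have h4 := (WithTop.add_left_cancel (Module.length_ne_top_iff.mpr hfin)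
    ((add_zero _).trans h3)).symm
  have hsurj : Function.Surjective g := LinearMap.range_eq_top.mp
    (Submodule.Quotient.subsingleton_iff.mp (Module.length_eq_zero_iff.mp h4))
  exact InjHull.Basic.injective_of_equiv hh.isInjective (LinearEquiv.ofBijective g ⟨hginj, hsurj⟩).symm

theorem length_socle_of_injective {φ : ResidueField A →ₗ[A] A} (hφ : Function.Injective φ)
    (hA : Module.Injective A A) :
    Module.length A (LocCoh.torsionBy (maximalIdeal A) A) = 1 := by
  have hh := hull_of_injective hφ hA
  have e : LocCoh.torsionBy (maximalIdeal A) A = LinearMap.range φ := by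
    ext a
    rw [Submodule.mem_torsionBySet_iff, Matlis.mem_range_iff hh]
    exact ⟨fun h b hb => h ⟨b, hb⟩, fun h b => h b b.2⟩
  have hs : IsSimpleModule A (ResidueField A) :=
    isSimpleModule_iff_quot_maximal.mpr ⟨_, inferInstance, ⟨LinearEquiv.refl _ _⟩⟩
  rw [e, ← (LinearEquiv.ofInjective φ hφ).length_eq]
  exact Module.length_eq_one A (ResidueField A)

theorem dim_le_of_id : ∀ (n : ℕ) (A : Type u) [CommRing A] [IsLocalRing A] [IsNoetherianRing A],
    HasInjectiveDimensionLT (ModuleCat.of A A) (n + 1) → ringKrullDim A ≤ n := by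
  intro n
  induction n with
  | zero =>
    intro A _ _ _ h
    have hA : Module.Injective A A := Module.injective_module_of_injective_object
      (inj := injective_iff_hasInjectiveDimensionLT_one.mpr h) A A
    rcases exists_regular_or_socle (A := A) with ⟨x, hx, hreg⟩ | ⟨φ, hφ⟩
    · obtain ⟨z, hz⟩ := InjDim.divisible_of_injective hreg hA 1
      exact absurd (IsUnit.of_mul_eq_one z hz) ((mem_maximalIdeal x).mp hx)
    · have := artinian_of_injective hφ hA
      exact le_of_eq (ringKrullDimZero_iff_ringKrullDim_eq_zero.mp inferInstance)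
  | succ n ih =>
    intro A _ _ _ h
    rcases exists_regular_or_socle (A := A) with ⟨x, hx, hreg⟩ | ⟨φ, hφ⟩
    · have := isLocalRing_quotient A hx
      rw [← ringKrullDim_quotient_span_singleton_succ_eq_ringKrullDim hreg hx]
      push_cast
      exact add_le_add_left (ih _ (id_quotient_self hreg h)) 1
    · have hA := injective_of_socle_of_finite_id hφ (n + 1) h
      have := artinian_of_injective hφ hA
      rw [ringKrullDimZero_iff_ringKrullDim_eq_zero.mp inferInstance]
      exact_mod_cast Nat.zero_le (n + 1)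

theorem exists_socle_of_artinian [IsArtinianRing A] :
    ∃ φ : ResidueField A →ₗ[A] A, Function.Injective φ := by
  rcases exists_regular_or_socle (A := A) with ⟨x, hx, hreg⟩ | h
  · have := IsArtinian.surjective_of_injective_endomorphism (LinearMap.mulLeft A x) hreg
    obtain ⟨y, hy⟩ := this 1
    exact absurd (IsUnit.of_mul_eq_one y hy) ((mem_maximalIdeal x).mp hx)
  · exact h

end Groth.Agent.Gor.Basic
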