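import Groth.Agent.Gor.Basic
import Groth.Agent.InjHull.BaseChange
import Groth.Agent.LocFlat.Basic
import Mathlib.RingTheory.Flat.Stability
import Mathlib.Algebra.Category.ModuleCat.InjectiveDimension
import Mathlib.RingTheory.Ideal.Quotient.Operations

/-!
# Gorenstein property along flat local homomorphisms
-/

set_option autoImplicit false

universe u

open CategoryTheory IsLocalRing
open scoped TensorProduct

namespace Groth.Agent.Gor.FlatLocal

open Groth.Agent.InjHull Groth.Agent.Gor.Basic

theorem gorenstein_of_ringEquiv {R S : Type u} [CommRing R] [CommRing S] (e : R ≃+* S)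
    [h : LocCoh.IsGorensteinLocalRing R] : LocCoh.IsGorensteinLocalRing S := by
  have := e.isLocalRing
  have : IsNoetherianRing S := isNoetherianRing_of_ringEquiv R e
  obtain ⟨n, hn⟩ := exists_hasInjectiveDimensionLT (A := R)
  exact gorenstein_mk (n := n + 1)
    ((ModuleCat.hasInjectiveDimensionLE_iff_of_semiLinearEquiv (M := ModuleCat.of R R)
      (N := ModuleCat.of S S) e e.toSemilinearEquiv n).mp hn)

theorem gorenstein_iff_of_ringEquiv {R S : Type u} [CommRing R] [CommRing S] (e : R ≃+* S) :
    LocCoh.IsGorensteinLocalRing R ↔ LocCoh.IsGorensteinLocalRing S :=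
  ⟨fun _ => gorenstein_of_ringEquiv e, fun _ => gorenstein_of_ringEquiv e.symm⟩

/-- socle length of a quotient ring, computed over either ring -/
theorem length_socle_quotient {B : Type u} [CommRing B] [IsLocalRing B] (J : Ideal B)
    [IsLocalRing (B ⧸ J)] :
    Module.length (B ⧸ J) (LocCoh.torsionBy (maximalIdeal (B ⧸ J)) (B ⧸ J)) =
      Module.length B (LocCoh.torsionBy (maximalIdeal B) (B ⧸ J)) := by
  have hmem : ∀ z : B ⧸ J, z ∈ LocCoh.torsionBy (maximalIdeal (B ⧸ J)) (B ⧸ J) ↔
      z ∈ LocCoh.torsionBy (maximalIdeal B) (B ⧸ J) := by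
    intro z
    have hmap := IsLocalRing.map_maximalIdeal_of_surjective (Ideal.Quotient.mk J) Ideal.Quotient.mk_surjective
    rw [Submodule.mem_torsionBySet_iff, Submodule.mem_torsionBySet_iff]
    constructor
    · intro h a
      exact h ⟨Ideal.Quotient.mk J a, hmap ▸ Ideal.mem_map_of_mem _ a.2⟩
    · intro h a
      obtain ⟨b, hb⟩ := Ideal.Quotient.mk_surjective (a : B ⧸ J)
      by_cases hbm : b ∈ maximalIdeal B
      · have := h ⟨b, hbm⟩
        change (a : B ⧸ J) * z = 0
        rw [← hb]
        exact this
      · exact absurd (hb ▸ (IsLocalRing.notMem_maximalIdeal.mp hbm).map (Ideal.Quotient.mk J))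
          ((mem_maximalIdeal _).mp a.2)
  rw [← Module.length_eq_of_surjective (R := B ⧸ J) (S := B) Ideal.Quotient.mk_surjective]
  let e : LocCoh.torsionBy (maximalIdeal (B ⧸ J)) (B ⧸ J) ≃ₗ[B]
      LocCoh.torsionBy (maximalIdeal B) (B ⧸ J) :=
    { toFun := fun z => ⟨z, (hmem z).mp z.2⟩
      invFun := fun z => ⟨z, (hmem z).mpr z.2⟩
      map_add' := fun _ _ => rfl
      map_smul' := fun _ _ => rfl
      left_inv := fun _ => rfl
      right_inv := fun _ => rfl }
  exact e.length_eq

variable {A B : Type u} [CommRing A] [IsLocalRing A] [IsNoetherianRing A] [CommRing B]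
  [IsLocalRing B] [IsNoetherianRing B] [Algebra A B] [IsLocalHom (algebraMap A B)] [Module.Flat A B]

theorem map_le : (maximalIdeal A).map (algebraMap A B) ≤ maximalIdeal B :=
  ((local_hom_TFAE (algebraMap A B)).out 0 2).mp ‹IsLocalHom (algebraMap A B)›

variable (A B) in
theorem isLocalRing_fibre : IsLocalRing (B ⧸ (maximalIdeal A).map (algebraMap A B)) := by
  have : Nontrivial (B ⧸ (maximalIdeal A).map (algebraMap A B)) :=
    Ideal.Quotient.nontrivial_iff.mpr fun h =>
      (maximalIdeal.isMaximal B).ne_top (top_le_iff.mp (h ▸ map_le))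
  exact IsLocalRing.of_surjective' (Ideal.Quotient.mk _) Ideal.Quotient.mk_surjective

/-- lifting a regular element of the closed fibre -/
theorem regular_of_fibre {y : B}
    (hy : IsSMulRegular (B ⧸ (maximalIdeal A).map (algebraMap A B)) y) :
    IsSMulRegular B y ∧ Module.Flat A (B ⧸ Ideal.span {y}) := by
  let J := (maximalIdeal A).map (algebraMap A B)
  let u : B →ₗ[A] B := (LinearMap.mulLeft B y).restrictScalars A
  let e : (ResidueField A ⊗[A] B) ≃ₗ[A] B ⧸ J :=
    (TensorProduct.comm A (ResidueField A) B).trans
      (((Algebra.TensorProduct.quotIdealMapEquivTensorQuot B (maximalIdeal A)).toLinearEquiv.symm).restrictScalars A)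
  have hcomm : ∀ z, e (u.lTensor (ResidueField A) z) = y • e z := by
    intro z
    induction z using TensorProduct.induction_on with
    | zero => simp
    | add p q hp hq => simp only [map_add, hp, hq, smul_add]
    | tmul c b =>
      obtain ⟨a, rfl⟩ := residue_surjective (R := A) c
      change (Submodule.Quotient.mk (a • (y * b)) : B ⧸ J) = y • (Submodule.Quotient.mk (a • b) : B ⧸ J)
      rw [← Submodule.Quotient.mk_smul, smul_eq_mul, mul_smul_comm]
  have hinj : Function.Injective (u.lTensor (ResidueField A)) := by
    intro p q hpq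
    exact e.injective (hy (by
      show y • e p = y • e q
      rw [← hcomm, ← hcomm, hpq]))
  obtain ⟨h1, h2⟩ := LocFlat.injective_and_flat_coker (S := B) u hinj
  refine ⟨fun p q hpq => h1 hpq, ?_⟩
  have hr : LinearMap.range u = (Ideal.span {y}).restrictScalars A := by
    ext b
    simp [u, Ideal.mem_span_singleton', mul_comm]
  exact Module.Flat.of_linearEquiv
    ((Submodule.Quotient.restrictScalarsEquiv A (Ideal.span {y})).symm.trans
      (Submodule.quotEquivOfEq _ _ hr.symm))

section Cases

variable {φ : ResidueField A →ₗ[A] A}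

/-- the closed fibre embeds into `B` when `k ↪ A` -/
theorem exists_fibre_embedding (hφ : Function.Injective φ) :
    ∃ ι : (B ⧸ (maximalIdeal A).map (algebraMap A B)) →ₗ[B] B, Function.Injective ι := by
  let e1 := (Algebra.TensorProduct.quotIdealMapEquivTensorQuot B (maximalIdeal A)).toLinearEquiv
  let ι := (TensorProduct.AlgebraTensorModule.rid A B B).toLinearMap ∘ₗ
    (LinearMap.baseChange B (φ : (A ⧸ maximalIdeal A) →ₗ[A] A)) ∘ₗ e1.toLinearMap
  refine ⟨ι, ?_⟩
  exact (TensorProduct.AlgebraTensorModule.rid A B B).injective.comp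
    ((Module.Flat.lTensor_preserves_injective_linearMap _ hφ).comp e1.injective)

end Cases

theorem flat_local_aux : ∀ (s : ℕ) (A B : Type u) [CommRing A] [IsLocalRing A] [IsNoetherianRing A]
    [CommRing B] [IsLocalRing B] [IsNoetherianRing B] [Algebra A B] [IsLocalHom (algebraMap A B)]
    [Module.Flat A B], ringKrullDim B = s →
    (LocCoh.IsGorensteinLocalRing B ↔ LocCoh.IsGorensteinLocalRing A ∧
      LocCoh.IsGorensteinLocalRing (B ⧸ (maximalIdeal A).map (algebraMap A B))) := by
  intro s
  induction s using Nat.strong_induction_on with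
  | _ s ih =>
  intro A B _ _ _ _ _ _ _ _ _ hs
  have := isLocalRing_fibre A B
  rcases exists_regular_or_socle (A := A) with ⟨x, hx, hreg⟩ | ⟨φ, hφ⟩
  · -- reduce modulo a regular element of the base
    let I := (Ideal.span {x}).map (algebraMap A B)
    have hI : I = Ideal.span {algebraMap A B x} := by simp [I, Ideal.map_span]
    have hy : algebraMap A B x ∈ maximalIdeal B := map_nonunit (algebraMap A B) x hx
    have : Module.FaithfullyFlat A B := Module.FaithfullyFlat.of_flat_of_isLocalHom
    have hy' : IsSMulRegular B (algebraMap A B x) := by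
      intro p q hpq
      refine (Module.Flat.lTensor_preserves_injective_linearMap (M := B)
        (LinearMap.mulLeft A x) hreg |> fun h => ?_)
      have hh : ∀ b : B, TensorProduct.rid A B ((LinearMap.mulLeft A x).lTensor B
          ((TensorProduct.rid A B).symm b)) = algebraMap A B x • b := fun b => by
        simp [Algebra.smul_def, mul_comm]
      exact (TensorProduct.rid A B).symm.injective (h ((TensorProduct.rid A B).injective (by
        rw [hh, hh]; exact hpq)))
    have := isLocalRing_quotient A hx
    have : IsLocalRing (B ⧸ I) := by rw [hI]; exact isLocalRing_quotient B hy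
    have : IsLocalHom (algebraMap (A ⧸ Ideal.span {x}) (B ⧸ I)) := by
      refine ⟨fun a ha => ?_⟩
      obtain ⟨a, rfl⟩ := Ideal.Quotient.mk_surjective a
      by_contra hna
      have ha' : a ∈ maximalIdeal A := fun hu => hna (hu.map _)
      have h1 : Ideal.Quotient.mk I (algebraMap A B a) ∈ maximalIdeal (B ⧸ I) := by
        rw [← IsLocalRing.map_maximalIdeal_of_surjective (Ideal.Quotient.mk I) Ideal.Quotient.mk_surjective]
        exact Ideal.mem_map_of_mem _ (map_nonunit (algebraMap A B) a ha')
      exact h1 ha
    have : Module.Flat (A ⧸ Ideal.span {x}) (B ⧸ I) := by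
      have e : ((A ⧸ Ideal.span {x}) ⊗[A] B) ≃ₗ[A] B ⧸ I :=
        (TensorProduct.quotTensorEquivQuotSMul B (Ideal.span {x})).trans
          ((Submodule.quotEquivOfEq _ _ (Ideal.smul_top_eq_map (Ideal.span {x}))).trans
            ((Submodule.Quotient.restrictScalarsEquiv A _).restrictScalars A))
      exact Module.Flat.of_linearEquiv (e.extendScalarsOfSurjective Ideal.Quotient.mk_surjective).symm
    obtain ⟨g, hg⟩ := exists_natCast_ringKrullDim (A := B ⧸ I)
    have hgs : g < s := by
      have := ringKrullDim_quotient_span_singleton_succ_eq_ringKrullDim hy' hy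
      rw [← hI, hg, hs] at this
      have : g + 1 = s := by exact_mod_cast this
      omega
    have hrec := ih g hgs (A ⧸ Ideal.span {x}) (B ⧸ I) hg
    have hle : I ≤ (maximalIdeal A).map (algebraMap A B) :=
      Ideal.map_mono ((Ideal.span_singleton_le_iff_mem _).mpr hx)
    have heq : (maximalIdeal (A ⧸ Ideal.span {x})).map (algebraMap (A ⧸ Ideal.span {x}) (B ⧸ I)) =
        ((maximalIdeal A).map (algebraMap A B)).map (Ideal.Quotient.mk I) := by
      rw [← IsLocalRing.map_maximalIdeal_of_surjective (Ideal.Quotient.mk (Ideal.span {x}))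
        Ideal.Quotient.mk_surjective, Ideal.map_map, Ideal.map_map]
      rfl
    have hfib := gorenstein_iff_of_ringEquiv ((Ideal.quotEquivOfEq heq).trans
      (DoubleQuot.quotQuotEquivQuotOfLE hle))
    rw [hfib, ← gorenstein_quotient_iff hx hreg] at hrec
    rw [gorenstein_quotient_iff hy hy', ← gorenstein_iff_of_ringEquiv (Ideal.quotEquivOfEq hI)]
    exact hrec
  set J := (maximalIdeal A).map (algebraMap A B) with hJ
  rcases exists_regular_or_socle (A := B ⧸ J) with ⟨y, hy, hyreg⟩ | ⟨ψ, hψ⟩
  · -- reduce modulo a regular element of the fibre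
    obtain ⟨y, rfl⟩ := Ideal.Quotient.mk_surjective y
    have hym : y ∈ maximalIdeal B := fun hu => hy (hu.map (Ideal.Quotient.mk J))
    have hyF : IsSMulRegular (B ⧸ J) y := fun p q hpq => hyreg hpq
    obtain ⟨hyB, hflat⟩ := regular_of_fibre hyF
    have := isLocalRing_quotient B hym
    have : IsLocalHom (algebraMap A (B ⧸ Ideal.span {y})) := by
      refine ⟨fun a ha => ?_⟩
      by_contra hna
      have h1 : Ideal.Quotient.mk (Ideal.span {y}) (algebraMap A B a) ∈ maximalIdeal _ := by
        rw [← IsLocalRing.map_maximalIdeal_of_surjective (Ideal.Quotient.mk (Ideal.span {y}))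
          Ideal.Quotient.mk_surjective]
        exact Ideal.mem_map_of_mem _ (map_nonunit (algebraMap A B) a hna)
      exact h1 ha
    obtain ⟨g, hg⟩ := exists_natCast_ringKrullDim (A := B ⧸ Ideal.span {y})
    have hgs : g < s := by
      have := ringKrullDim_quotient_span_singleton_succ_eq_ringKrullDim hyB hym
      rw [hg, hs] at this
      have : g + 1 = s := by exact_mod_cast this
      omega
    have hrec := ih g hgs A (B ⧸ Ideal.span {y}) hg
    have heq : (maximalIdeal A).map (algebraMap A (B ⧸ Ideal.span {y})) =
        J.map (Ideal.Quotient.mk (Ideal.span {y})) := by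
      rw [hJ, Ideal.map_map]; rfl
    have hspan : (Ideal.span {y}).map (Ideal.Quotient.mk J) = Ideal.span {Ideal.Quotient.mk J y} := by
      rw [Ideal.map_span, Set.image_singleton]
    have hfib := gorenstein_iff_of_ringEquiv ((Ideal.quotEquivOfEq heq).trans
      ((DoubleQuot.quotQuotEquivComm (Ideal.span {y}) J).trans (Ideal.quotEquivOfEq hspan)))
    rw [hfib, ← gorenstein_quotient_iff hy hyreg, ← gorenstein_quotient_iff hym hyB] at hrec
    exact hrec
  -- both of depth zero
  obtain ⟨ι, hι⟩ := exists_fibre_embedding (B := B) hφ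
  constructor
  · intro hB
    obtain ⟨n, hn⟩ := exists_hasInjectiveDimensionLT (A := B)
    have hψ' : ∃ χ : ResidueField B →ₗ[B] B, Function.Injective χ := by
      let c := ψ 1
      have hc : ∀ b ∈ maximalIdeal B, b • c = 0 := by
        intro b hb
        have hb' : Ideal.Quotient.mk J b ∈ maximalIdeal (B ⧸ J) := by
          rw [← IsLocalRing.map_maximalIdeal_of_surjective (Ideal.Quotient.mk J) Ideal.Quotient.mk_surjective]
          exact Ideal.mem_map_of_mem _ hb
        change Ideal.Quotient.mk J b • ψ 1 = 0
        rw [← map_smul, Matlis.residue_smul_eq_zero hb', map_zero]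
      let χ : ResidueField B →ₗ[B] B := Submodule.liftQ (maximalIdeal B)
        (LinearMap.toSpanSingleton B B (ι c)) fun b hb => by
          rw [LinearMap.mem_ker, LinearMap.toSpanSingleton_apply, ← map_smul, hc b hb, map_zero]
      refine ⟨χ, LinearMap.ker_eq_bot.mp (Submodule.eq_bot_iff _ |>.mpr fun w hw => ?_)⟩
      obtain ⟨b, rfl⟩ := residue_surjective (R := B) w
      change b • ι c = 0 at hw
      rw [← map_smul] at hw
      have hbc : b • c = 0 := hι (hw.trans (map_zero ι).symm)
      by_contra hne
      have hu : IsUnit b := by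
        by_contra hnu
        exact hne ((residue_eq_zero_iff b).mpr hnu)
      have hc0 : c = 0 := hu.smul_eq_zero.mp hbc
      exact one_ne_zero (hψ (hc0.trans (map_zero ψ).symm))
    obtain ⟨χ, hχ⟩ := hψ'
    have hBinj := injective_of_socle_of_finite_id hχ n hn
    have hBh := hull_of_injective hχ hBinj
    have : IsArtinianRing B := Matlis.isArtinian_hull hBh
    have : Module.FaithfullyFlat A B := Module.FaithfullyFlat.of_flat_of_isLocalHom
    have : IsArtinian B (B ⊗[A] A) :=
      isArtinian_of_linearEquiv (TensorProduct.AlgebraTensorModule.rid A B B).symm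
    have : IsArtinianRing A :=
      Submodule.IsArtinian.of_isArtinian_tensorProduct_of_faithfullyFlat (R := A) (A := B) (M := A) inferInstance
    have hBfl : IsFiniteLength B B :=
      isFiniteLength_iff_isNoetherian_isArtinian.mpr ⟨inferInstance, ‹IsArtinianRing B›⟩
    have hFfl : IsFiniteLength B (B ⧸ J) := hBfl.of_surjective (f := Submodule.mkQ J)
      (Submodule.mkQ_surjective J)
    have h1 : Module.length B (LocCoh.torsionBy J B) = Module.length B (B ⧸ J) :=
      (Recognize.homQuotientEquiv J B).length_eq.symm.trans (Matlis.length_dual hBh hFfl)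
    let er : (B ⊗[A] A) ≃ₗ[B] B := TensorProduct.AlgebraTensorModule.rid A B B
    let etm : LocCoh.torsionBy J (B ⊗[A] A) →ₗ[B] LocCoh.torsionBy J B :=
      er.toLinearMap.restrict fun w hw => (Submodule.mem_torsionBySet_iff _ _).mpr fun b => by
        change (b : B) • er w = 0
        rw [← map_smul, (Submodule.mem_torsionBySet_iff _ _).mp hw b, map_zero]
    have hetm : Function.Bijective etm := by
      refine ⟨fun p q hpq => Subtype.ext (er.injective (congrArg Subtype.val hpq)), fun w => ?_⟩
      exact ⟨⟨er.symm w, (Submodule.mem_torsionBySet_iff _ _).mpr fun b => by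
        rw [← map_smul, (Submodule.mem_torsionBySet_iff _ _).mp w.2 b, map_zero]⟩,
        Subtype.ext (er.apply_symm_apply _)⟩
    let et : LocCoh.torsionBy J (B ⊗[A] A) ≃ₗ[B] LocCoh.torsionBy J B :=
      LinearEquiv.ofBijective etm hetm
    have h2 : Module.length B (LocCoh.torsionBy J B) =
        Module.length A (LocCoh.torsionBy (maximalIdeal A) A) * Module.length B (B ⧸ J) := by
      have het : Module.length B (LocCoh.torsionBy J (B ⊗[A] A)) =
          Module.length B (LocCoh.torsionBy J B) := LinearEquiv.length_eq et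
      rw [← het, ← (BaseChange.torsionEquiv (IsNoetherian.noetherian _)).length_eq,
        IsLocalRing.length_baseChange A B]
    have hsocA : Module.length A (LocCoh.torsionBy (maximalIdeal A) A) = 1 := by
      rw [h1] at h2
      have hA' : IsFiniteLength A A :=
        isFiniteLength_iff_isNoetherian_isArtinian.mpr ⟨inferInstance, ‹IsArtinianRing A›⟩
      have hS : Module.length A (LocCoh.torsionBy (maximalIdeal A) A) ≠ ⊤ :=
        Module.length_ne_top_iff.mpr (hA'.of_injective (Submodule.injective_subtype _))
      have hF0 : Module.length B (B ⧸ J) ≠ 0 := Module.length_pos.ne'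
      have hFt := Module.length_ne_top_iff.mpr hFfl
      lift Module.length B (B ⧸ J) to ℕ using hFt with f
      lift Module.length A (LocCoh.torsionBy (maximalIdeal A) A) to ℕ using hS with a
      have h2' : f = a * f := by exact_mod_cast h2
      have hf0 : f ≠ 0 := by exact_mod_cast hF0
      have : a = 1 := by
        by_contra hne
        rcases Nat.lt_or_gt_of_ne hne with h | h
        · simp [Nat.lt_one_iff.mp h] at h2'; exact hf0 h2'
        · nlinarith [Nat.pos_of_ne_zero hf0]
      exact_mod_cast this
    refine ⟨gorenstein_of_injective (injective_of_simple_socle hsocA), ?_⟩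
    have : IsArtinianRing (B ⧸ J) := inferInstance
    refine gorenstein_of_injective (injective_of_simple_socle ?_)
    rw [length_socle_quotient J]
    refine le_antisymm ?_ ?_
    · rw [← length_socle_of_injective hχ hBinj]
      let ιt : LocCoh.torsionBy (maximalIdeal B) (B ⧸ J) →ₗ[B] LocCoh.torsionBy (maximalIdeal B) B :=
        ι.restrict fun w hw => (Submodule.mem_torsionBySet_iff _ _).mpr fun b => by
          rw [← map_smul, (Submodule.mem_torsionBySet_iff _ _).mp hw b, map_zero]
      exact Module.length_le_of_injective ιt fun p q hpq =>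
        Subtype.ext (hι (congrArg Subtype.val hpq))
    · rw [← length_socle_quotient J, Order.one_le_iff_pos, Module.length_pos_iff]
      have hmem : ψ 1 ∈ LocCoh.torsionBy (maximalIdeal (B ⧸ J)) (B ⧸ J) :=
        (Submodule.mem_torsionBySet_iff _ _).mpr fun b => by
          rw [← map_smul, Matlis.residue_smul_eq_zero b.2, map_zero]
      exact ⟨⟨⟨ψ 1, hmem⟩, 0, fun h =>
        one_ne_zero (hψ ((congrArg Subtype.val h).trans (map_zero ψ).symm))⟩⟩
  · rintro ⟨hA, hF⟩
    obtain ⟨n, hn⟩ := exists_hasInjectiveDimensionLT (A := A)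
    have hAinj := injective_of_socle_of_finite_id hφ n hn
    have hAh := hull_of_injective hφ hAinj
    obtain ⟨k, hk⟩ := exists_hasInjectiveDimensionLT (A := B ⧸ J)
    have hFinj := injective_of_socle_of_finite_id hψ k hk
    have : IsArtinianRing (B ⧸ J) := artinian_of_injective hψ hFinj
    have hFfl : IsFiniteLength B (B ⧸ J) :=
      isFiniteLength_iff_isNoetherian_isArtinian.mpr ⟨inferInstance,
        isArtinian_of_surjective_algebraMap (R := B ⧸ J) Ideal.Quotient.mk_surjective⟩
    have hsoc : Module.length B (LocCoh.torsionBy (maximalIdeal B) (B ⧸ J)) = 1 := by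
      rw [← length_socle_quotient J]
      exact length_socle_of_injective hψ hFinj
    obtain ⟨g, hg⟩ := BaseChange.exists_hull_baseChange (B := B) hAh hFfl hsoc
    exact gorenstein_of_injective
      (InjHull.Basic.injective_of_equiv hg.isInjective (TensorProduct.AlgebraTensorModule.rid A B B))

variable (A B) in
theorem gorenstein_flat_local_iff :
    LocCoh.IsGorensteinLocalRing B ↔ LocCoh.IsGorensteinLocalRing A ∧
      LocCoh.IsGorensteinLocalRing (B ⧸ (maximalIdeal A).map (algebraMap A B)) := by
  obtain ⟨s, hs⟩ := exists_natCast_ringKrullDim (A := B)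
  exact flat_local_aux s A B hs

end Groth.Agent.Gor.FlatLocal
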