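import Groth.Agent.Gor.FlatLocal
import Groth.Agent.S0342
import Groth.Agent.S0345
import Groth.Agent.InjHull.Coextend
import Mathlib.RingTheory.LocalRing.ResidueField.Fiber
import Mathlib.RingTheory.RegularLocalRing.Polynomial
import Mathlib.RingTheory.TensorProduct.MvPolynomial
import Mathlib.RingTheory.TensorProduct.Free
import Mathlib.RingTheory.EssentialFiniteness
import Mathlib.FieldTheory.SeparableClosure
import Mathlib.RingTheory.Localization.BaseChange
import Mathlib.RingTheory.SimpleModule.InjectiveProjective

/-!
# Gorenstein rings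

Localisation, flat maps with Gorenstein fibres, polynomial rings, quotients by nonzerodivisors,
base change along finitely generated field extensions.
-/

universe u

open CategoryTheory IsLocalRing Algebra.TensorProduct
open scoped TensorProduct

namespace Groth.Agent.Gor.Ring

theorem isGorensteinRing_of_finite_id (A : Type u) [CommRing A] [IsNoetherianRing A] {n : ℕ}
    (h : HasInjectiveDimensionLT (ModuleCat.of A A) n) : LocCoh.IsGorensteinRing A :=
  ((S0345.result A).mp ⟨n, h⟩).1

theorem isGorensteinRing_of_injective (A : Type u) [CommRing A] [IsNoetherianRing A]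
    (h : Module.Injective A A) : LocCoh.IsGorensteinRing A := by
  have : Injective (ModuleCat.of A A) := Module.injective_object_of_injective_module (inj := h) A A
  exact isGorensteinRing_of_finite_id A (n := 1) inferInstance

theorem isGorensteinRing_of_local (A : Type u) [CommRing A] [LocCoh.IsGorensteinLocalRing A] :
    LocCoh.IsGorensteinRing A :=
  isGorensteinRing_of_finite_id A
    (LocCoh.IsGorensteinLocalRing.exists_hasInjectiveDimensionLT (A := A)).choose_spec

theorem isGorensteinRing_of_isRegularRing (A : Type u) [CommRing A] [IsRegularRing A] :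
    LocCoh.IsGorensteinRing A :=
  { isGorensteinLocalRing_localization := fun p _ =>
      have : IsRegularLocalRing (Localization.AtPrime p) := isRegularRing_iff.mp inferInstance p
      S0342.result _ }

variable {A B : Type u} [CommRing A] [CommRing B]

theorem gorenstein_of_isLocalization_atPrime (hA : LocCoh.IsGorensteinRing A) (p : Ideal A)
    [p.IsPrime] (S : Type u) [CommRing S] [Algebra A S] [IsLocalization.AtPrime S p] :
    LocCoh.IsGorensteinLocalRing S :=
  have := hA.isGorensteinLocalRing_localization p
  FlatLocal.gorenstein_of_ringEquiv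
    (IsLocalization.algEquiv p.primeCompl (Localization.AtPrime p) S).toRingEquiv

theorem gorenstein_localization_maximal_iff [IsLocalRing A] [IsNoetherianRing A] :
    LocCoh.IsGorensteinLocalRing (Localization.AtPrime (maximalIdeal A)) ↔
      LocCoh.IsGorensteinLocalRing A :=
  FlatLocal.gorenstein_iff_of_ringEquiv
    (IsLocalization.atUnits A (maximalIdeal A).primeCompl (S := Localization.AtPrime (maximalIdeal A))
      (fun x hx => by simpa using! hx)).toRingEquiv.symm

theorem gorensteinLocal_of_ring [IsLocalRing A] (hA : LocCoh.IsGorensteinRing A) :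
    LocCoh.IsGorensteinLocalRing A :=
  have := hA.toIsNoetherian
  gorenstein_localization_maximal_iff.mp (hA.isGorensteinLocalRing_localization _)

theorem isGorensteinRing_of_isLocalization (M : Submonoid A) (S : Type u) [CommRing S] [Algebra A S]
    [IsLocalization M S] (hA : LocCoh.IsGorensteinRing A) : LocCoh.IsGorensteinRing S :=
  have : IsNoetherianRing S := IsLocalization.isNoetherianRing M S hA.toIsNoetherian
  { isGorensteinLocalRing_localization := fun q _ => by
      have : IsLocalization.AtPrime (Localization.AtPrime q) (q.comap (algebraMap A S)) :=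
        IsLocalization.isLocalization_isLocalization_atPrime_isLocalization M _ q
      exact gorenstein_of_isLocalization_atPrime hA (q.comap (algebraMap A S)) _ }

theorem isGorensteinRing_of_ringEquiv (e : A ≃+* B) (hA : LocCoh.IsGorensteinRing A) :
    LocCoh.IsGorensteinRing B :=
  have := hA.toIsNoetherian
  have : IsNoetherianRing B := isNoetherianRing_of_ringEquiv A e
  { isGorensteinLocalRing_localization := fun q _ =>
      have := hA.isGorensteinLocalRing_localization (q.comap e)
      FlatLocal.gorenstein_of_ringEquiv (IsLocalization.ringEquivOfRingEquiv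
        (Localization.AtPrime (q.comap e)) (Localization.AtPrime q) e (e.map_primeCompl_comap_eq q)) }

/-- quotient by a nonzerodivisor -/
theorem isGorensteinRing_quotient (hA : LocCoh.IsGorensteinRing A) {f : A}
    (hf : IsSMulRegular A f) : LocCoh.IsGorensteinRing (A ⧸ Ideal.span {f}) := by
  have := hA.toIsNoetherian
  refine { isGorensteinLocalRing_localization := fun q _ => ?_ }
  let q' : Ideal A := q.comap (Ideal.Quotient.mk (Ideal.span {f}))
  have hfq : f ∈ q' := by
    change Ideal.Quotient.mk _ f ∈ q
    rw [Ideal.Quotient.eq_zero_iff_mem.mpr (Ideal.mem_span_singleton_self f)]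
    exact q.zero_mem
  let Am := Localization.AtPrime q'
  have hx : algebraMap A Am f ∈ maximalIdeal Am := by
    rwa [IsLocalization.AtPrime.to_map_mem_maximal_iff Am q' f]
  have hreg : IsSMulRegular Am (algebraMap A Am f) :=
    IsSMulRegular.of_isLocalizedModule Am q'.primeCompl (Algebra.linearMap A Am) hf
  have hG : LocCoh.IsGorensteinLocalRing Am := hA.isGorensteinLocalRing_localization q'
  have h1 := (Basic.gorenstein_quotient_iff hx hreg).mp hG
  have hJ : (Ideal.span {f}).map (algebraMap A Am) = Ideal.span {algebraMap A Am f} := by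
    rw [Ideal.map_span, Set.image_singleton]
  have hM : Algebra.algebraMapSubmonoid (A ⧸ Ideal.span {f}) q'.primeCompl = q.primeCompl := by
    ext y
    obtain ⟨a, rfl⟩ := Ideal.Quotient.mk_surjective y
    constructor
    · rintro ⟨b, hb, hab⟩ hq
      exact hb (show Ideal.Quotient.mk _ b ∈ q by
        rw [← Ideal.Quotient.algebraMap_eq, hab]; exact hq)
    · intro h
      exact ⟨a, fun ha => h ha, rfl⟩
  have : IsLocalization q.primeCompl (Am ⧸ (Ideal.span {f}).map (algebraMap A Am)) := by
    rw [← hM]; infer_instance
  exact FlatLocal.gorenstein_of_ringEquiv ((Ideal.quotEquivOfEq hJ.symm).trans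
    (IsLocalization.algEquiv q.primeCompl (Am ⧸ (Ideal.span {f}).map (algebraMap A Am))
      (Localization.AtPrime q)).toRingEquiv)

section Flat

variable [Algebra A B]

theorem isNoetherianRing_fiber [IsNoetherianRing B] (p : Ideal A) [p.IsPrime] :
    IsNoetherianRing (p.Fiber B) := by
  have : IsNoetherianRing (Localization (Algebra.algebraMapSubmonoid B p.primeCompl)) :=
    IsLocalization.isNoetherianRing (Algebra.algebraMapSubmonoid B p.primeCompl) _ inferInstance
  let := Algebra.TensorProduct.rightAlgebra (R := A) (A := p.ResidueField) (B := B)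
  exact isNoetherianRing_of_ringEquiv _ (Ideal.Fiber.algEquivQuotient (S := B) p).symm.toRingEquiv

variable [IsNoetherianRing A] [IsNoetherianRing B] [Module.Flat A B]

/-- For a flat map the local ring at a prime upstairs is Gorenstein iff the base and the fibre are. -/
theorem gorenstein_atPrime_iff_fibre (p : Ideal A) [p.IsPrime] (Q : Ideal (p.Fiber B)) [Q.IsPrime] :
    LocCoh.IsGorensteinLocalRing
        (Localization.AtPrime (Q.comap (includeRight (R := A) (A := p.ResidueField) (B := B)))) ↔
      LocCoh.IsGorensteinLocalRing (Localization.AtPrime p) ∧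
        LocCoh.IsGorensteinLocalRing (Localization.AtPrime Q) := by
  let r := Q.comap (includeRight (R := A) (A := p.ResidueField) (B := B))
  let := Localization.AtPrime.algebraOfLiesOver p r
  have : IsLocalHom (algebraMap (Localization.AtPrime p) (Localization.AtPrime r)) := by
    rw [Localization.AtPrime.IsLiesOverAlgebra.algebraMap_eq]
    exact Localization.isLocalHom_localRingHom _ _ _ _
  have hJ : (maximalIdeal (Localization.AtPrime p)).map
      (algebraMap (Localization.AtPrime p) (Localization.AtPrime r)) =
      p.map (algebraMap A (Localization.AtPrime r)) := by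
    rw [← Localization.AtPrime.map_eq_maximalIdeal, Ideal.map_map, ← IsScalarTower.algebraMap_eq]
  refine (FlatLocal.gorenstein_flat_local_iff (Localization.AtPrime p) (Localization.AtPrime r)).trans
    (and_congr_right fun _ => FlatLocal.gorenstein_iff_of_ringEquiv
      ((Ideal.quotEquivOfEq hJ).trans
        (Ideal.Fiber.localizationAlgEquivQuotient p Q).symm.toRingEquiv))

omit [IsNoetherianRing A] [IsNoetherianRing B] [Module.Flat A B] in
theorem exists_fibre_prime (q : Ideal B) [q.IsPrime] :
    ∃ Q : Ideal ((q.comap (algebraMap A B)).Fiber B), ∃ _ : Q.IsPrime,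
      Q.comap (includeRight (R := A) (A := (q.comap (algebraMap A B)).ResidueField) (B := B)) = q := by
  let p : PrimeSpectrum A := ⟨q.comap (algebraMap A B), inferInstance⟩
  let e := PrimeSpectrum.preimageEquivFiber A B p
  let x : PrimeSpectrum.comap (algebraMap A B) ⁻¹' {p} := ⟨⟨q, inferInstance⟩, rfl⟩
  exact ⟨(e x).asIdeal, (e x).2,
    congrArg (fun y => y.1.asIdeal) (e.symm_apply_apply x)⟩

theorem gorenstein_atPrime_iff (q : Ideal B) [q.IsPrime]
    (hF : LocCoh.IsGorensteinRing ((q.comap (algebraMap A B)).Fiber B)) :
    LocCoh.IsGorensteinLocalRing (Localization.AtPrime q) ↔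
      LocCoh.IsGorensteinLocalRing (Localization.AtPrime (q.comap (algebraMap A B))) := by
  obtain ⟨Q, hQ, h⟩ := exists_fibre_prime (A := A) q
  have h1 := gorenstein_atPrime_iff_fibre (q.comap (algebraMap A B)) Q
  have h2 : ∀ (r : Ideal B) [r.IsPrime], r = q → (LocCoh.IsGorensteinLocalRing (Localization.AtPrime r) ↔ LocCoh.IsGorensteinLocalRing (Localization.AtPrime q)) := by
    rintro r _ rfl; rfl
  rw [h2 _ h] at h1
  exact h1.trans ⟨fun h => h.1, fun h => ⟨h, hF.isGorensteinLocalRing_localization Q⟩⟩

theorem isGorensteinRing_of_flat (hA : LocCoh.IsGorensteinRing A)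
    (hF : ∀ (p : Ideal A) [p.IsPrime], LocCoh.IsGorensteinRing (p.Fiber B)) :
    LocCoh.IsGorensteinRing B :=
  { isGorensteinLocalRing_localization := fun q _ =>
      (gorenstein_atPrime_iff q (hF _)).mpr (hA.isGorensteinLocalRing_localization _) }

theorem isGorensteinRing_fiber (hB : LocCoh.IsGorensteinRing B) (p : Ideal A) [p.IsPrime] :
    LocCoh.IsGorensteinRing (p.Fiber B) :=
  have := isNoetherianRing_fiber (B := B) p
  { isGorensteinLocalRing_localization := fun Q _ =>
      ((gorenstein_atPrime_iff_fibre p Q).mp (hB.isGorensteinLocalRing_localization _)).2 }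

end Flat

theorem isGorensteinRing_mvPolynomial (σ : Type u) [Finite σ] (hA : LocCoh.IsGorensteinRing A) :
    LocCoh.IsGorensteinRing (MvPolynomial σ A) :=
  have := hA.toIsNoetherian
  isGorensteinRing_of_flat hA fun p _ =>
    isGorensteinRing_of_ringEquiv (MvPolynomial.algebraTensorAlgEquiv A p.ResidueField).symm.toRingEquiv
      (isGorensteinRing_of_isRegularRing _)

section Fields

variable (F K L : Type u) [Field F] [Field K] [Algebra F K] [Field L] [Algebra F L]

/-- `L ⊗_F K` is self-injective for a finite field extension `K/F`. -/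
theorem isGorensteinRing_finite_field_tensor [FiniteDimensional F K] :
    LocCoh.IsGorensteinRing (L ⊗[F] K) := by
  classical
  have : IsNoetherianRing (L ⊗[F] K) := IsNoetherianRing.of_finite L _
  obtain ⟨τ, hτ⟩ := Module.Projective.exists_dual_ne_zero F (one_ne_zero : (1 : K) ≠ 0)
  let ψ : K →ₗ[F] Module.Dual F K := (LinearMap.mul F K).compr₂ τ
  have hψ : Function.Injective ψ := by
    rw [← LinearMap.ker_eq_bot, LinearMap.ker_eq_bot']
    intro a ha
    by_contra h
    refine hτ ?_
    have := LinearMap.congr_fun ha a⁻¹
    simpa [ψ, mul_inv_cancel₀ h] using this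
  let b := Module.finBasis F K
  choose b' hb' using fun j =>
    (LinearMap.injective_iff_surjective_of_finrank_eq_finrank Subspace.dual_finrank_eq.symm).mp hψ
      (b.coord j)
  let Bs := Algebra.TensorProduct.basis L b
  let T : L ⊗[F] K →ₗ[L] L :=
    (TensorProduct.AlgebraTensorModule.rid F L L).toLinearMap ∘ₗ LinearMap.baseChange L τ
  have key : ∀ j, T ∘ₗ LinearMap.mulRight L ((1 : L) ⊗ₜ[F] b' j) = Bs.coord j := by
    intro j
    refine Bs.ext fun i => ?_
    have : τ (b' j * b i) = b.coord j (b i) := by rw [← hb']; rfl
    simp [Bs, T, mul_comm (b i), this, Finsupp.single_apply]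
  let E := InjHull.Coextend.Co L (L ⊗[F] K) L
  let Φ : (L ⊗[F] K) →ₗ[L ⊗[F] K] E :=
    LinearMap.toSpanSingleton _ _ (InjHull.Coextend.mk T)
  have hΦ : ∀ e t, InjHull.Coextend.ap (Φ e) t = T (t * e) := fun e t => by
    change InjHull.Coextend.ap (e • InjHull.Coextend.mk T) t = _
    rw [InjHull.Coextend.ap_smul, InjHull.Coextend.ap_mk]
  have hinj : Function.Injective Φ := by
    rw [← LinearMap.ker_eq_bot, LinearMap.ker_eq_bot']
    intro e he
    refine Bs.repr.injective (Finsupp.ext fun j => ?_)
    have h := LinearMap.congr_fun (key j) e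
    rw [LinearMap.comp_apply, LinearMap.mulRight_apply, mul_comm, ← hΦ, he,
      InjHull.Coextend.ap_zero] at h
    simpa using h.symm
  have hsurj : Function.Surjective Φ := by
    intro g
    refine ⟨∑ j, InjHull.Coextend.ap g (Bs j) • ((1 : L) ⊗ₜ[F] b' j), InjHull.Coextend.ext_ap ?_⟩
    intro t
    rw [hΦ]
    conv_rhs => rw [← Bs.sum_repr t]
    simp only [Finset.mul_sum, map_sum, mul_smul_comm, map_smul, smul_eq_mul]
    refine Finset.sum_congr rfl fun j _ => ?_
    rw [show T (t * ((1 : L) ⊗ₜ[F] b' j)) = Bs.repr t j from LinearMap.congr_fun (key j) t, mul_comm]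
  exact isGorensteinRing_of_injective _ (InjHull.Basic.injective_of_equiv
    (InjHull.Coextend.injective_co L (L ⊗[F] K) L (Module.injective_of_isSemisimpleRing L L))
    (LinearEquiv.ofBijective Φ ⟨hinj, hsurj⟩).symm)

/-- Base change of a Gorenstein ring along an algebra with Gorenstein fibres over all fields. -/
theorem isGorensteinRing_baseChange {F : Type u} [Field F] {K : Type u} [CommRing K] [Algebra F K]
    {R : Type u} [CommRing R] [Algebra F R] [IsNoetherianRing (R ⊗[F] K)]
    (hR : LocCoh.IsGorensteinRing R)
    (h : ∀ (L : Type u) [Field L] [Algebra F L], LocCoh.IsGorensteinRing (L ⊗[F] K)) :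
    LocCoh.IsGorensteinRing (R ⊗[F] K) :=
  have := hR.toIsNoetherian
  isGorensteinRing_of_flat hR fun p _ =>
    isGorensteinRing_of_ringEquiv
      (Algebra.TensorProduct.cancelBaseChange F R R p.ResidueField K).symm.toRingEquiv
      (h p.ResidueField)

theorem isNoetherianRing_tensor [Algebra.EssFiniteType F K] (R : Type u) [CommRing R] [Algebra F R]
    [IsNoetherianRing R] : IsNoetherianRing (R ⊗[F] K) :=
  Algebra.EssFiniteType.isNoetherianRing R _

/-- `L ⊗_F K` is Gorenstein for a finitely generated field extension `K/F`. -/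
theorem isGorensteinRing_fg_field_tensor [Algebra.EssFiniteType F K] :
    LocCoh.IsGorensteinRing (L ⊗[F] K) := by
  obtain ⟨s, hs⟩ : ∃ s : Finset K, IsTranscendenceBasis F ((↑) : ↥(s : Set K) → K) := by
    have ⟨s, hs, _⟩ :=
      IntermediateField.exists_finset_maximalFor_isTranscendenceBasis_separableClosure (F := F) (E := K)
    exact ⟨s, hs⟩
  let E := IntermediateField.adjoin F (s : Set K)
  have : Algebra.IsAlgebraic E K := by
    have := hs.isAlgebraic_field
    convert! this <;> simp
  have : Algebra.EssFiniteType E K := .of_comp F _ _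
  have : Module.Finite E K := Algebra.finite_of_essFiniteType_of_isAlgebraic
  have hLE : LocCoh.IsGorensteinRing (L ⊗[F] E) := by
    let P := MvPolynomial ↥(s : Set K) F
    let φ : P →ₐ[F] E := MvPolynomial.aeval fun x => ⟨x.1, IntermediateField.subset_adjoin F _ x.2⟩
    let := φ.toRingHom.toAlgebra
    have : IsScalarTower F P E := .of_algebraMap_eq fun c => (φ.commutes c).symm
    have hfrac : IsFractionRing P E := by
      let e := hs.1.aevalEquivField
      have hE : IntermediateField.adjoin F (Set.range ((↑) : ↥(s : Set K) → K)) = E := by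
        rw [Subtype.range_coe]
      refine IsLocalization.isLocalization_of_algEquiv _ (AlgEquiv.ofRingEquiv (R := P)
        (f := (e.trans (IntermediateField.equivOfEq hE)).toRingEquiv) fun x => ?_)
      apply Subtype.ext
      change ((e (algebraMap P (FractionRing P) x) : _) : K) = ((φ x : E) : K)
      rw [hs.1.aevalEquivField_algebraMap_apply_coe]
      change _ = E.val (φ x)
      rw [← AlgHom.comp_apply, MvPolynomial.comp_aeval]
      rfl
    let f := Algebra.TensorProduct.map (AlgHom.id L L) φ
    let := f.toRingHom.toAlgebra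
    have : IsScalarTower L (L ⊗[F] P) (L ⊗[F] E) := .of_algebraMap_eq fun c => (f.commutes c).symm
    have := IsLocalization.tensorProduct_tensorProduct_right F L (nonZeroDivisors P) E
      (RingHom.ext fun x => by simp [RingHom.algebraMap_toAlgebra, f])
    have hG : LocCoh.IsGorensteinRing (L ⊗[F] P) := isGorensteinRing_of_ringEquiv
      (MvPolynomial.algebraTensorAlgEquiv (σ := ↥(s : Set K)) F L).symm.toRingEquiv
      (isGorensteinRing_of_isRegularRing _)
    exact isGorensteinRing_of_isLocalization ((nonZeroDivisors P).map
      (Algebra.TensorProduct.includeRight (R := F) (A := L) (B := P))) _ hG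
  let := Algebra.TensorProduct.rightAlgebra (R := F) (A := L) (B := E)
  have : IsScalarTower F E (L ⊗[F] E) :=
    Algebra.TensorProduct.right_isScalarTower (R := F) (A := L) (B := E)
  have := hLE.toIsNoetherian
  have := isNoetherianRing_tensor E K (L ⊗[F] E)
  refine isGorensteinRing_of_ringEquiv ?_
    (isGorensteinRing_baseChange (K := K) hLE fun M _ _ => isGorensteinRing_finite_field_tensor E K M)
  exact ((Algebra.TensorProduct.comm E (L ⊗[F] E) K).toRingEquiv.trans
    ((Algebra.TensorProduct.congr (.refl (R := E) (A₁ := K))
      ({ (Algebra.TensorProduct.comm F L E).toRingEquiv with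
          commutes' := fun c => by
            change Algebra.TensorProduct.comm F L E ((1 : L) ⊗ₜ c) = c ⊗ₜ (1 : L)
            simp } : L ⊗[F] E ≃ₐ[E] E ⊗[F] L)).toRingEquiv.trans
    ((Algebra.TensorProduct.cancelBaseChange F E E K L).toRingEquiv.trans
      (Algebra.TensorProduct.comm F K L).toRingEquiv)))

variable {F K}

theorem isGorensteinRing_tensor_fg_field [Algebra.EssFiniteType F K] {R : Type u} [CommRing R]
    [Algebra F R] (hR : LocCoh.IsGorensteinRing R) : LocCoh.IsGorensteinRing (R ⊗[F] K) :=
  have := hR.toIsNoetherian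
  have := isNoetherianRing_tensor F K R
  isGorensteinRing_baseChange hR fun L _ _ => isGorensteinRing_fg_field_tensor F K L

end Fields

end Groth.Agent.Gor.Ring
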