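import Groth.Agent.Gor.Ring
import Groth.Agent.KosCone.Basic
import Groth.Prelude.Def_LCI2

/-!
# Quotients by Koszul-regular ideals of Gorenstein rings are Gorenstein
-/

universe u

open CategoryTheory IsLocalRing

namespace Groth.Agent.Gor.LCI

variable {A : Type u} [CommRing A]

/-- localisation of a quotient -/
theorem isLocalization_quotient_atPrime (I : Ideal A) (q : Ideal (A ⧸ I)) [q.IsPrime]
    (Am : Type u) [CommRing Am] [Algebra A Am]
    [IsLocalization.AtPrime Am (q.comap (Ideal.Quotient.mk I))] :
    IsLocalization.AtPrime (Am ⧸ I.map (algebraMap A Am)) q := by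
  have hM : Algebra.algebraMapSubmonoid (A ⧸ I) (q.comap (Ideal.Quotient.mk I)).primeCompl
      = q.primeCompl := by
    ext y
    obtain ⟨a, rfl⟩ := Ideal.Quotient.mk_surjective y
    constructor
    · rintro ⟨b, hb, hab⟩ hq
      exact hb (show Ideal.Quotient.mk _ b ∈ q by
        rw [← Ideal.Quotient.algebraMap_eq, hab]; exact hq)
    · intro h
      exact ⟨a, fun ha => h ha, rfl⟩
  change IsLocalization q.primeCompl _
  rw [← hM]
  infer_instance

theorem gorenstein_atPrime_quotient_of_acyclicAt (hA : LocCoh.IsGorensteinRing A) (p : Ideal A)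
    [p.IsPrime] : ∀ (l : List A), Ideal.ofList l ≤ p → KosCone.Basic.AcyclicAt p l →
      LocCoh.IsGorensteinLocalRing
        (Localization.AtPrime p ⧸ (Ideal.ofList l).map (algebraMap A (Localization.AtPrime p)))
  | [], _, _ => by
    have := hA.isGorensteinLocalRing_localization p
    let e : Localization.AtPrime p ≃+* Localization.AtPrime p ⧸
        (Ideal.ofList ([] : List A)).map (algebraMap A (Localization.AtPrime p)) :=
      (RingEquiv.quotientBot (Localization.AtPrime p)).symm.trans
        (Ideal.quotEquivOfEq (by rw [Ideal.ofList_nil, Ideal.map_bot]))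
    exact FlatLocal.gorenstein_of_ringEquiv (R := Localization.AtPrime p) e
  | f :: l, hl, h => by
    have := hA.toIsNoetherian
    rw [Ideal.ofList_cons, sup_le_iff, Ideal.span_singleton_le_iff_mem] at hl
    have hB := gorenstein_atPrime_quotient_of_acyclicAt hA p l hl.2
      (KosCone.Basic.acyclicAt_tail p hl.1 h)
    let Ap := Localization.AtPrime p
    let J : Ideal Ap := (Ideal.ofList l).map (algebraMap A Ap)
    let x : Ap ⧸ J := Ideal.Quotient.mk J (algebraMap A Ap f)
    have hB' : LocCoh.IsGorensteinLocalRing (Ap ⧸ J) := hB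
    have : IsLocalRing (Ap ⧸ J) := hB'.toIsLocalRing
    have : IsLocalHom (Ideal.Quotient.mk J) := IsLocalHom.of_surjective _ Ideal.Quotient.mk_surjective
    have hx : x ∈ maximalIdeal (Ap ⧸ J) :=
      (map_mem_nonunits_iff (Ideal.Quotient.mk J) _).mpr
        (by
          have := (IsLocalization.AtPrime.to_map_mem_maximal_iff Ap p f).mpr hl.1
          exact this)
    have hreg : IsSMulRegular (Ap ⧸ J) x := by
      intro a b hab
      apply KosCone.Basic.isSMulRegular_atPrime p h
      change algebraMap A Ap f • a = algebraMap A Ap f • b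
      obtain ⟨a, rfl⟩ := Ideal.Quotient.mk_surjective a
      obtain ⟨b, rfl⟩ := Ideal.Quotient.mk_surjective b
      exact hab
    have hG := (Basic.gorenstein_quotient_iff hx hreg).mp hB'
    refine FlatLocal.gorenstein_of_ringEquiv (R := (Ap ⧸ J) ⧸ Ideal.span {x})
      ((Ideal.quotEquivOfEq ?_).trans
      ((DoubleQuot.quotQuotEquivQuotSup J (Ideal.span {algebraMap A Ap f})).trans
        (Ideal.quotEquivOfEq ?_)))
    · rw [Ideal.map_span, Set.image_singleton]
    · rw [Ideal.ofList_cons, Ideal.map_sup, Ideal.map_span, Set.image_singleton, sup_comm]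

/-- A quotient of a Gorenstein ring by a Koszul-regular ideal is Gorenstein. -/
theorem isGorensteinRing_quotient_koszulRegular (hA : LocCoh.IsGorensteinRing A) (I : Ideal A)
    (h : _root_.LCI.IsKoszulRegularIdeal I) : LocCoh.IsGorensteinRing (A ⧸ I) := by
  have := hA.toIsNoetherian
  refine { isGorensteinLocalRing_localization := fun q _ => ?_ }
  let 𝔭 : Ideal A := q.comap (Ideal.Quotient.mk I)
  have hI : I ≤ 𝔭 := by
    intro a ha
    change Ideal.Quotient.mk I a ∈ q
    rw [Ideal.Quotient.eq_zero_iff_mem.mpr ha]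
    exact q.zero_mem
  obtain ⟨g, hg, l, hreg, hspan⟩ := h ⟨𝔭, inferInstance⟩ hI
  have hdisj : Disjoint (Submonoid.powers g : Set A) (𝔭 : Set A) :=
    (Ideal.disjoint_powers_iff_notMem_of_isPrime g).mpr hg
  let Pg := Localization.Away g
  let 𝔮 : Ideal Pg := 𝔭.map (algebraMap A Pg)
  have : 𝔮.IsPrime :=
    IsLocalization.isPrime_of_isPrime_disjoint (Submonoid.powers g) _ 𝔭 inferInstance hdisj
  let Am := Localization.AtPrime 𝔮
  have hcomap : 𝔮.comap (algebraMap A Pg) = 𝔭 :=
    IsLocalization.under_map_of_isPrime_disjoint (Submonoid.powers g) _ inferInstance hdisj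
  have : IsLocalization.AtPrime Am (q.comap (Ideal.Quotient.mk I)) := by
    have h1 : IsLocalization.AtPrime Am (𝔮.comap (algebraMap A Pg)) :=
      IsLocalization.isLocalization_isLocalization_atPrime_isLocalization (Submonoid.powers g) _ 𝔮
    have key : ∀ (r : Ideal A) [r.IsPrime], r = 𝔭 → IsLocalization.AtPrime Am r →
        IsLocalization.AtPrime Am 𝔭 := by
      rintro r _ rfl h; exact h
    exact key _ hcomap h1
  have := isLocalization_quotient_atPrime I q Am
  have hle : Ideal.ofList l ≤ 𝔮 := by
    have : I.map (algebraMap A Pg) ≤ 𝔮 := Ideal.map_mono hI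
    rw [hspan] at this
    exact this
  have hG := gorenstein_atPrime_quotient_of_acyclicAt
    (Ring.isGorensteinRing_of_isLocalization (Submonoid.powers g) Pg hA) 𝔮 l hle
    (KosCone.Basic.acyclicAt_of_isZero 𝔮 l hreg)
  have hJ : (Ideal.ofList l).map (algebraMap Pg Am) = I.map (algebraMap A Am) := by
    rw [IsScalarTower.algebraMap_eq A Pg Am, ← Ideal.map_map, hspan]
  exact FlatLocal.gorenstein_of_ringEquiv (R := Am ⧸ (Ideal.ofList l).map (algebraMap Pg Am))
    ((Ideal.quotEquivOfEq hJ).trans
    (IsLocalization.algEquiv q.primeCompl (Am ⧸ I.map (algebraMap A Am))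
      (Localization.AtPrime q)).toRingEquiv)

/-- lci algebras over Gorenstein rings are Gorenstein. -/
theorem isGorensteinRing_of_isLCI {B : Type u} [CommRing B] [Algebra A B]
    (hA : LocCoh.IsGorensteinRing A) (h : _root_.LCI.IsLCI A B) : LocCoh.IsGorensteinRing B := by
  obtain ⟨-, n, f, hf, hreg⟩ := h
  have hP : LocCoh.IsGorensteinRing (MvPolynomial (Fin n) A) :=
    Ring.isGorensteinRing_of_ringEquiv (MvPolynomial.renameEquiv A Equiv.ulift).toRingEquiv
      (Ring.isGorensteinRing_mvPolynomial (ULift.{u} (Fin n)) hA)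
  exact Ring.isGorensteinRing_of_ringEquiv (RingHom.quotientKerEquivOfSurjective hf)
    (isGorensteinRing_quotient_koszulRegular hP _ hreg)

end Groth.Agent.Gor.LCI
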