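import Groth.Agent.Gor.Basic
import Groth.Agent.CMSeq.Basic
import Groth.Agent.Gor.FlatLocal
import Groth.Agent.InjHull.Matlis
import Mathlib.RingTheory.Filtration
import Mathlib.RingTheory.Localization.Away.Basic

/-!
# The top Čech module of a Gorenstein local ring is an injective hull of the residue field
-/

universe u

open RingTheory.Sequence IsLocalRing
open scoped Pointwise

namespace Groth.Agent.Gor.CechHull

/-- weakly regular quotients of Gorenstein local rings -/
theorem gorenstein_quotient_list : ∀ (n : ℕ) (R : Type u) [CommRing R] [LocCoh.IsGorensteinLocalRing R]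
    (l : List R), l.length = n → IsWeaklyRegular R l → (∀ a ∈ l, a ∈ maximalIdeal R) →
    LocCoh.IsGorensteinLocalRing (R ⧸ Ideal.ofList l)
  | 0, R, _, hR, l, hl, _, _ => by
    obtain rfl := List.length_eq_zero_iff.mp hl
    exact FlatLocal.gorenstein_of_ringEquiv (R := R)
      ((RingEquiv.quotientBot R).symm.trans (Ideal.quotEquivOfEq Ideal.ofList_nil.symm))
  | n + 1, R, _, hR, [], hl, _, _ => absurd hl (by simp)
  | n + 1, R, _, hR, f :: l, hl, hreg, hm => by
    have hf : f ∈ maximalIdeal R := hm f List.mem_cons_self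
    rw [isWeaklyRegular_cons_iff'] at hreg
    have hB := (Basic.gorenstein_quotient_iff hf hreg.1).mp inferInstance
    let e : QuotSMulTop f R ≃ₗ[R ⧸ Ideal.span {f}] R ⧸ Ideal.span {f} :=
      let e₀ : QuotSMulTop f R ≃ₗ[R] R ⧸ Ideal.span {f} := Submodule.quotEquivOfEq _ _ (by
        rw [← Submodule.ideal_span_singleton_smul, smul_eq_mul, Ideal.mul_top])
      { e₀ with
        map_smul' := fun c y => by
          obtain ⟨c, rfl⟩ := Ideal.Quotient.mk_surjective c
          exact e₀.map_smul c y }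
    have hloc : ∀ a ∈ l.map (Ideal.Quotient.mk (Ideal.span {f})), a ∈ maximalIdeal (R ⧸ Ideal.span {f}) := by
      intro a ha
      obtain ⟨b, hb, rfl⟩ := List.mem_map.mp ha
      have : IsLocalHom (Ideal.Quotient.mk (Ideal.span {f})) :=
        IsLocalHom.of_surjective _ Ideal.Quotient.mk_surjective
      exact (map_mem_nonunits_iff (Ideal.Quotient.mk (Ideal.span {f})) b).mpr (hm b (List.mem_cons_of_mem _ hb))
    have := gorenstein_quotient_list n (R ⧸ Ideal.span {f}) (l.map (Ideal.Quotient.mk _))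
      (by simp at hl ⊢; omega) ((e.isWeaklyRegular_congr _).mp hreg.2) hloc
    exact FlatLocal.gorenstein_of_ringEquiv (R := (R ⧸ Ideal.span {f}) ⧸ Ideal.ofList (l.map (Ideal.Quotient.mk (Ideal.span {f}))))
      ((Ideal.quotEquivOfEq (Ideal.map_ofList _ l).symm).trans
        ((DoubleQuot.quotQuotEquivQuotSup _ _).trans (Ideal.quotEquivOfEq (Ideal.ofList_cons f l).symm)))

variable {R : Type u} [CommRing R] {d : ℕ} (x : Fin d → R)

/-- the ideal of powers -/
def pw (e : Fin d → ℕ) : Ideal R := Ideal.span (Set.range fun i => x i ^ e i)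

theorem pw_mono {e e' : Fin d → ℕ} (h : ∀ i, e i ≤ e' i) : pw x e' ≤ pw x e := by
  refine Ideal.span_le.mpr ?_
  rintro _ ⟨i, rfl⟩
  exact Ideal.mem_of_dvd _ (pow_dvd_pow (x i) (h i)) (Ideal.subset_span ⟨i, rfl⟩)

variable [hR : LocCoh.IsGorensteinLocalRing R] (hd : ringKrullDim R = d)
  (hx : (Ideal.span (Set.range x)).radical = maximalIdeal R)

include hd hx

theorem x_mem (i : Fin d) : x i ∈ maximalIdeal R :=
  hx ▸ Ideal.le_radical (Ideal.subset_span ⟨i, rfl⟩)

theorem isWeaklyRegular_of_perm (l : List R) (hl : l.length = d)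
    (hle : ∀ a ∈ l, a ∈ maximalIdeal R) (hrad : ∀ i, x i ∈ (Ideal.ofList l).radical) :
    IsWeaklyRegular R l := by
  have := Basic.isCohenMacaulay_of_gorenstein (A := R)
  refine CMSeq.isWeaklyRegular_of_radical l R (Depth.isCohenMacaulayModule_self R)
    (Ideal.span_le.mpr hle) ?_ ?_
  · refine le_trans (hx.ge.trans ?_) (Ideal.radical_mono le_sup_right)
    rw [Ideal.radical_le_radical_iff, Ideal.span_le]
    rintro _ ⟨i, rfl⟩
    exact hrad i
  · rw [Module.supportDim_self_eq_ringKrullDim, hd, hl]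

/-- one variable is regular modulo powers of the others -/
theorem mem_others (i : Fin d) (e : Fin d → ℕ) (he : ∀ j, 1 ≤ e j) (a : R)
    (h : x i * a ∈ Ideal.span ((fun j => x j ^ e j) '' {j | j ≠ i})) :
    a ∈ Ideal.span ((fun j => x j ^ e j) '' {j | j ≠ i}) := by
  classical
  let l₁ := ((Finset.univ.erase i).toList.map fun j => x j ^ e j)
  have hl₁ : Ideal.ofList l₁ = Ideal.span ((fun j => x j ^ e j) '' {j | j ≠ i}) := by
    refine congrArg Ideal.span (Set.ext fun a => ?_)
    simp [l₁]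
  have hreg := isWeaklyRegular_of_perm x hd hx (l₁ ++ [x i]) (by
      have hpos : 0 < d := i.pos
      simp [l₁]; omega) (fun a ha => ?_) (fun j => ?_)
  rotate_left
  · rcases List.mem_append.mp ha with ha | ha
    · obtain ⟨j, -, rfl⟩ := List.mem_map.mp ha
      exact Ideal.pow_mem_of_mem _ (x_mem x hd hx j) _ (he j)
    · rw [List.mem_singleton.mp ha]; exact x_mem x hd hx i
  · rw [Ideal.ofList_append]
    by_cases hj : j = i
    · subst hj
      exact Ideal.le_radical (Submodule.mem_sup_right (Ideal.subset_span (List.mem_singleton_self _)))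
    · exact ⟨e j, Submodule.mem_sup_left (hl₁.ge (Ideal.subset_span ⟨j, hj, rfl⟩))⟩
  rw [isWeaklyRegular_append_iff, isWeaklyRegular_singleton_iff] at hreg
  have h0 := hreg.2.right_eq_zero_of_smul (x := (Submodule.Quotient.mk a)) (by
    rw [← Submodule.Quotient.mk_smul, Submodule.Quotient.mk_eq_zero, smul_eq_mul (Ideal.ofList l₁), Ideal.mul_top,
      hl₁, smul_eq_mul]
    exact h)
  rwa [Submodule.Quotient.mk_eq_zero, smul_eq_mul, Ideal.mul_top, hl₁] at h0

theorem cancel_one (i : Fin d) : ∀ (k : ℕ) (e : Fin d → ℕ) (a : R), (∀ j, 1 ≤ e j) →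
    x i ^ k * a ∈ pw x (Function.update e i (e i + k)) → a ∈ pw x e
  | 0, e, a, _, h => by simpa using h
  | k + 1, e, a, he, h => by
    refine cancel_one i k e a he ?_
    let e' := Function.update e i (e i + k)
    let O := Ideal.span ((fun j => x j ^ e j) '' {j | j ≠ i})
    have hO : O ≤ pw x e' := Ideal.span_le.mpr (by
      rintro _ ⟨j, hj, rfl⟩
      exact Ideal.subset_span ⟨j, by simp [e', Function.update_of_ne hj]⟩)
    have hsub : pw x (Function.update e i (e i + (k + 1))) ≤ Ideal.span {x i ^ (e i + (k + 1))} ⊔ O := by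
      refine Ideal.span_le.mpr ?_
      rintro _ ⟨j, rfl⟩
      by_cases hj : j = i
      · subst hj; simpa using Submodule.mem_sup_left (Ideal.mem_span_singleton_self _)
      · simp only [Function.update_of_ne hj]
        exact Submodule.mem_sup_right (Ideal.subset_span ⟨j, hj, rfl⟩)
    obtain ⟨u, hu, v, hv, huv⟩ := Submodule.mem_sup.mp (hsub h)
    obtain ⟨b, rfl⟩ := Ideal.mem_span_singleton'.mp hu
    have h1 : x i * (x i ^ k * a - b * x i ^ (e i + k)) ∈ O := by
      rw [show x i * (x i ^ k * a - b * x i ^ (e i + k)) = v by linear_combination -huv]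
      exact hv
    have h2 := mem_others x hd hx i e he _ h1
    rw [show x i ^ k * a = (x i ^ k * a - b * x i ^ (e i + k)) + b * x i ^ (e i + k) by ring]
    exact Ideal.add_mem _ (hO h2) (Ideal.mul_mem_left _ _ (Ideal.subset_span ⟨i, by simp⟩))

theorem cancel (n k : ℕ) (hn : 1 ≤ n) (a : R)
    (h : (∏ i, x i) ^ k * a ∈ pw x fun _ => n + k) : a ∈ pw x fun _ => n := by
  classical
  suffices H : ∀ S : Finset (Fin d), ∀ a, (∏ i ∈ S, x i) ^ k * a ∈
      pw x (fun j => if j ∈ S then n + k else n) → a ∈ pw x fun _ => n by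
    exact H Finset.univ a (by simpa using h)
  intro S
  induction S using Finset.induction_on with
  | empty => intro a h; simpa using h
  | insert i S hi ih =>
    intro a h
    rw [Finset.prod_insert hi, mul_pow, mul_assoc] at h
    refine ih a (cancel_one x hd hx i k _ _ (fun j => by split <;> omega) ?_)
    convert h using 2
    ext j
    by_cases hj : j = i
    · subst hj; simp [hi]
    · simp [Function.update_of_ne hj, hj]

local notation "t" => ∏ i, x i
local notation "L" => Localization.Away (∏ i, x i)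
local notation "J[" n "]" => pw x fun _ => n

omit hd hx hR

/-- `a / t^n` -/
noncomputable def frac (a : R) (n : ℕ) : L := algebraMap R L a * IsLocalization.Away.invSelf t ^ n

theorem frac_shift (a : R) (n k : ℕ) : frac x (a * t ^ k) (n + k) = frac x a n := by
  have h : algebraMap R L t * IsLocalization.Away.invSelf t = 1 := IsLocalization.Away.mul_invSelf t
  rw [frac, frac, map_mul, map_pow, pow_add]
  calc algebraMap R L a * algebraMap R L t ^ k * (IsLocalization.Away.invSelf t ^ n * IsLocalization.Away.invSelf t ^ k)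
      = algebraMap R L a * IsLocalization.Away.invSelf t ^ n * (algebraMap R L t * IsLocalization.Away.invSelf t) ^ k := by ring
    _ = _ := by rw [h, one_pow, mul_one]

theorem frac_eq_iff {a b : R} {n : ℕ} : frac x a n = frac x b n ↔ ∃ c : ℕ, t ^ c * a = t ^ c * b := by
  have hu : IsUnit (IsLocalization.Away.invSelf t ^ n : L) :=
    (IsUnit.of_mul_eq_one (algebraMap R L t) (by rw [mul_comm]; exact IsLocalization.Away.mul_invSelf t)).pow n
  rw [frac, frac, hu.mul_left_inj]
  constructor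
  · intro h
    obtain ⟨⟨_, c, rfl⟩, hc⟩ := IsLocalization.exists_of_eq (M := Submonoid.powers t) h
    exact ⟨c, hc⟩
  · rintro ⟨c, hc⟩
    have := congrArg (algebraMap R L) hc
    rw [map_mul, map_mul, map_pow] at this
    exact ((IsLocalization.Away.algebraMap_isUnit (S := L) t).pow c).mul_right_inj.mp this

theorem exists_frac (y : L) : ∃ a n, 1 ≤ n ∧ y = frac x a n := by
  obtain ⟨n, a, h⟩ := IsLocalization.Away.surj t y
  have h1 : algebraMap R L t * IsLocalization.Away.invSelf t = 1 := IsLocalization.Away.mul_invSelf t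
  refine ⟨a * t ^ 1, n + 1, by omega, ?_⟩
  rw [frac_shift, frac, ← h]
  rw [mul_assoc, ← mul_pow, h1, one_pow, mul_one]

/-- the denominator submodule -/
noncomputable def den : Submodule R L :=
  Submodule.span R {y : L | ∃ (i : Fin d) (n : ℕ),
    y = algebraMap R L (x i ^ n) * IsLocalization.Away.invSelf t ^ n}

theorem frac_mem_den {a : R} {n : ℕ} (h : a ∈ J[n]) : frac x a n ∈ den x := by
  refine Submodule.span_induction (p := fun a _ => frac x a n ∈ den x) ?_ ?_ ?_ ?_ h
  · rintro _ ⟨i, rfl⟩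
    exact Submodule.subset_span ⟨i, n, rfl⟩
  · simp [frac]
  · intro a b _ _ ha hb
    rw [frac, map_add, add_mul]
    exact Submodule.add_mem _ ha hb
  · intro r a _ ha
    rw [frac, smul_eq_mul, map_mul, mul_assoc, ← Algebra.smul_def]
    exact Submodule.smul_mem _ r ha

theorem exists_of_mem_den {y : L} (h : y ∈ den x) : ∃ b k, b ∈ J[k] ∧ y = frac x b k := by
  induction h using Submodule.span_induction with
  | mem y hy =>
    obtain ⟨i, n, rfl⟩ := hy
    exact ⟨x i ^ n, n, Ideal.subset_span ⟨i, rfl⟩, rfl⟩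
  | zero => exact ⟨0, 0, Submodule.zero_mem _, by simp [frac]⟩
  | add y z _ _ hy hz =>
    obtain ⟨b, k, hb, rfl⟩ := hy
    obtain ⟨c, l, hc, rfl⟩ := hz
    refine ⟨b * t ^ l + c * t ^ k, k + l, ?_, ?_⟩
    · refine Ideal.add_mem _ ?_ ?_
      · refine Submodule.span_induction (p := fun b _ => b * t ^ l ∈ J[k + l]) ?_ ?_ ?_ ?_ hb
        · rintro _ ⟨i, rfl⟩
          refine Ideal.mem_of_dvd _ ?_ (Ideal.subset_span ⟨i, rfl⟩)
          change x i ^ (k + l) ∣ x i ^ k * t ^ l
          rw [pow_add]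
          exact mul_dvd_mul_left _ (pow_dvd_pow_of_dvd (Finset.dvd_prod_of_mem _ (Finset.mem_univ i)) l)
        · simp
        · intro u v _ _ hu hv; rw [add_mul]; exact Ideal.add_mem _ hu hv
        · intro r u _ hu; rw [smul_eq_mul, mul_assoc]; exact Ideal.mul_mem_left _ r hu
      · refine Submodule.span_induction (p := fun c _ => c * t ^ k ∈ J[k + l]) ?_ ?_ ?_ ?_ hc
        · rintro _ ⟨i, rfl⟩
          refine Ideal.mem_of_dvd _ ?_ (Ideal.subset_span ⟨i, rfl⟩)
          change x i ^ (k + l) ∣ x i ^ l * t ^ k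
          rw [add_comm k l, pow_add]
          exact mul_dvd_mul_left _ (pow_dvd_pow_of_dvd (Finset.dvd_prod_of_mem _ (Finset.mem_univ i)) k)
        · simp
        · intro u v _ _ hu hv; rw [add_mul]; exact Ideal.add_mem _ hu hv
        · intro r u _ hu; rw [smul_eq_mul, mul_assoc]; exact Ideal.mul_mem_left _ r hu
    · rw [← frac_shift x b k l, ← frac_shift x c l k, add_comm l k]
      simp only [frac, map_add, add_mul]
  | smul r y _ hy =>
    obtain ⟨b, k, hb, rfl⟩ := hy
    exact ⟨r * b, k, Ideal.mul_mem_left _ r hb, by rw [frac, frac, Algebra.smul_def, map_mul, mul_assoc]⟩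

/-- the top Čech module -/
abbrev Q : Type u := L ⧸ den x

/-- its stages -/
noncomputable def ψ (n : ℕ) : (R ⧸ J[n]) →ₗ[R] Q x :=
  Submodule.liftQ (pw x fun _ => n)
    ((den x).mkQ.comp ((LinearMap.toSpanSingleton R L (IsLocalization.Away.invSelf t ^ n))))
    (fun a ha => by
      rw [LinearMap.mem_ker, LinearMap.comp_apply, LinearMap.toSpanSingleton_apply, Submodule.mkQ_apply,
        Submodule.Quotient.mk_eq_zero, Algebra.smul_def]
      exact frac_mem_den x ha)

theorem ψ_mk (n : ℕ) (a : R) : ψ x n (Ideal.Quotient.mk _ a) = Submodule.Quotient.mk (frac x a n) := by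
  change (den x).mkQ (a • IsLocalization.Away.invSelf t ^ n) = _
  rw [Algebra.smul_def]; rfl

theorem exists_ψ (y : Q x) : ∃ n, 1 ≤ n ∧ y ∈ LinearMap.range (ψ x n) := by
  obtain ⟨y, rfl⟩ := Submodule.Quotient.mk_surjective _ y
  obtain ⟨a, n, hn, rfl⟩ := exists_frac x y
  exact ⟨n, hn, _, ψ_mk x n a⟩

theorem range_ψ_mono {n m : ℕ} (h : n ≤ m) : LinearMap.range (ψ x n) ≤ LinearMap.range (ψ x m) := by
  rintro _ ⟨a, rfl⟩
  obtain ⟨a, rfl⟩ := Ideal.Quotient.mk_surjective a
  obtain ⟨k, rfl⟩ := Nat.exists_eq_add_of_le h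
  exact ⟨Ideal.Quotient.mk _ (a * t ^ k), by rw [ψ_mk, ψ_mk, frac_shift]⟩

include hR hd hx

theorem mem_of_frac_mem {a : R} {n : ℕ} (hn : 1 ≤ n) (h : frac x a n ∈ den x) : a ∈ J[n] := by
  obtain ⟨b, k, hb, he⟩ := exists_of_mem_den x h
  rw [← frac_shift x a n k, ← frac_shift x b k n, add_comm k n, frac_eq_iff] at he
  obtain ⟨c, hc⟩ := he
  refine cancel x hd hx n (k + c) hn a ?_
  rw [show t ^ (k + c) * a = t ^ c * (a * t ^ k) by ring, hc]
  refine Submodule.span_induction (p := fun b _ => t ^ c * (b * t ^ n) ∈ J[n + (k + c)]) ?_ ?_ ?_ ?_ hb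
  · rintro _ ⟨i, rfl⟩
    refine Ideal.mem_of_dvd _ ?_ (Ideal.subset_span ⟨i, rfl⟩)
    change x i ^ (n + (k + c)) ∣ t ^ c * (x i ^ k * t ^ n)
    rw [show t ^ c * (x i ^ k * t ^ n) = t ^ n * (x i ^ k * t ^ c) by ring, pow_add, pow_add]
    exact mul_dvd_mul (pow_dvd_pow_of_dvd (Finset.dvd_prod_of_mem _ (Finset.mem_univ i)) n)
      (mul_dvd_mul_left _ (pow_dvd_pow_of_dvd (Finset.dvd_prod_of_mem _ (Finset.mem_univ i)) c))
  · simp
  · intro u v _ _ hu hv; rw [add_mul, mul_add]; exact Ideal.add_mem _ hu hv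
  · intro r u _ hu
    rw [smul_eq_mul, show t ^ c * (r * u * t ^ n) = r * (t ^ c * (u * t ^ n)) by ring]
    exact Ideal.mul_mem_left _ r hu

theorem ψ_injective {n : ℕ} (hn : 1 ≤ n) : Function.Injective (ψ x n) := by
  rw [injective_iff_map_eq_zero]
  intro a ha
  obtain ⟨a, rfl⟩ := Ideal.Quotient.mk_surjective a
  rw [ψ_mk, Submodule.Quotient.mk_eq_zero] at ha
  exact Ideal.Quotient.eq_zero_iff_mem.mpr (mem_of_frac_mem x hd hx hn ha)

theorem pow_mem_maximal (m : ℕ) (hm : 1 ≤ m) : J[m] ≤ maximalIdeal R :=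
  Ideal.span_le.mpr (by rintro _ ⟨i, rfl⟩; exact Ideal.pow_mem_of_mem _ (x_mem x hd hx i) _ hm)

theorem quotient_spec (m : ℕ) (hm : 1 ≤ m) :
    ∃ (_ : IsLocalRing (R ⧸ J[m])) (_ : IsArtinianRing (R ⧸ J[m])), Module.Injective (R ⧸ J[m]) (R ⧸ J[m]) := by
  classical
  let l := (Finset.univ : Finset (Fin d)).toList.map fun i => x i ^ m
  have hl : Ideal.ofList l = J[m] := congrArg Ideal.span (Set.ext fun a => by simp [l])
  have hlm : ∀ a ∈ l, a ∈ maximalIdeal R := fun a ha => by
    obtain ⟨i, -, rfl⟩ := List.mem_map.mp ha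
    exact Ideal.pow_mem_of_mem _ (x_mem x hd hx i) _ hm
  have hG := gorenstein_quotient_list l.length R l rfl
    (isWeaklyRegular_of_perm x hd hx l (by simp [l]) hlm fun i =>
      ⟨m, Ideal.subset_span (List.mem_map.mpr ⟨i, Finset.mem_toList.mpr (Finset.mem_univ i), rfl⟩)⟩) hlm
  have hG' : LocCoh.IsGorensteinLocalRing (R ⧸ J[m]) :=
    FlatLocal.gorenstein_of_ringEquiv (R := R ⧸ Ideal.ofList l) (Ideal.quotEquivOfEq hl)
  have : IsLocalRing (R ⧸ J[m]) := hG'.toIsLocalRing
  have h0 : Ring.KrullDimLE 0 (R ⧸ J[m]) := by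
    refine Ring.KrullDimLE.mk₀ fun P hP => ?_
    have hc : (P.comap (Ideal.Quotient.mk J[m])).IsPrime := Ideal.comap_isPrime _ _
    have hmax : P.comap (Ideal.Quotient.mk J[m]) = maximalIdeal R := by
      refine le_antisymm (le_maximalIdeal hc.ne_top) ?_
      rw [← hx, hc.radical_le_iff, Ideal.span_le]
      rintro _ ⟨i, rfl⟩
      refine hc.mem_of_pow_mem m ?_
      have hi : x i ^ m ∈ J[m] := Ideal.subset_span ⟨i, rfl⟩
      rw [Ideal.mem_comap, Ideal.Quotient.eq_zero_iff_mem.mpr hi]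
      exact P.zero_mem
    have : (P.comap (Ideal.Quotient.mk J[m])).IsMaximal := hmax ▸ inferInstance
    rw [← Ideal.map_comap_of_surjective _ Ideal.Quotient.mk_surjective P]
    refine (Ideal.map_eq_top_or_isMaximal_of_surjective _ Ideal.Quotient.mk_surjective this).resolve_left fun htop => ?_
    exact hP.ne_top (by rw [← Ideal.map_comap_of_surjective _ Ideal.Quotient.mk_surjective P, htop])
  have : IsArtinianRing (R ⧸ J[m]) := isArtinianRing_iff_krullDimLE_zero.mpr h0
  exact ⟨‹_›, this, Module.injective_module_of_injective_object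
    (inj := CategoryTheory.injective_iff_hasInjectiveDimensionLT_one.mpr
      (Basic.hasInjectiveDimensionLT_dim (d := 0) (by
        exact_mod_cast ringKrullDimZero_iff_ringKrullDim_eq_zero.mp h0))) _ _⟩

/-- the part killed by the `m`-th powers -/
theorem mem_range_of_killed {m : ℕ} (hm : 1 ≤ m) (y : Q x) (h : ∀ i, x i ^ m • y = 0) :
    y ∈ LinearMap.range (ψ x m) := by
  classical
  obtain ⟨n₀, -, hy₀⟩ := exists_ψ x y
  obtain ⟨a', rfl⟩ := range_ψ_mono x (show n₀ ≤ m + n₀ by omega) hy₀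
  obtain ⟨a, rfl⟩ := Ideal.Quotient.mk_surjective a'
  obtain ⟨_, -, hinj⟩ := quotient_spec x hd hx (m + n₀) (by omega)
  let Rb := R ⧸ J[m + n₀]
  let c : Rb := Ideal.Quotient.mk _ (t ^ n₀)
  have hkill : ∀ r : Rb, r * c = 0 → r * Ideal.Quotient.mk _ a = 0 := by
    intro r hr
    obtain ⟨r, rfl⟩ := Ideal.Quotient.mk_surjective r
    rw [← map_mul, Ideal.Quotient.eq_zero_iff_mem] at hr ⊢
    have hrm : r ∈ J[m] := cancel x hd hx m n₀ hm r (by rwa [mul_comm])
    refine Submodule.span_induction (p := fun r _ => r * a ∈ J[m + n₀]) ?_ ?_ ?_ ?_ hrm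
    · rintro _ ⟨i, rfl⟩
      have := h i
      rw [← map_smul, map_eq_zero_iff _ (ψ_injective x hd hx (show 1 ≤ m + n₀ by omega))] at this
      exact Ideal.Quotient.eq_zero_iff_mem.mp this
    · simp
    · intro u v _ _ hu hv; rw [add_mul]; exact Ideal.add_mem _ hu hv
    · intro r u _ hu; rw [smul_eq_mul, mul_assoc]; exact Ideal.mul_mem_left _ r hu
  let τ := LinearMap.toSpanSingleton Rb Rb c
  let φ : (LinearMap.range τ) →ₗ[Rb] Rb :=
    (Submodule.liftQ _ (LinearMap.toSpanSingleton Rb Rb (Ideal.Quotient.mk _ a))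
      (fun r (hr : r • c = 0) => hkill r hr)).comp τ.quotKerEquivRange.symm.toLinearMap
  obtain ⟨h', hh'⟩ := Module.Injective.extension_property Rb Rb _ _ (LinearMap.range τ).subtype
    (Submodule.injective_subtype _) φ
  have hca : h' c = Ideal.Quotient.mk _ a := by
    refine (LinearMap.congr_fun hh' ⟨c, 1, one_smul Rb c⟩).trans ?_
    have h1 : τ.quotKerEquivRange.symm ⟨c, 1, one_smul Rb c⟩ = Submodule.Quotient.mk 1 := by
      rw [LinearEquiv.symm_apply_eq]
      exact Subtype.ext (one_smul Rb c).symm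
    simp only [φ, LinearMap.comp_apply, LinearEquiv.coe_toLinearMap, h1, Submodule.liftQ_apply,
      LinearMap.toSpanSingleton_apply, one_smul]
  obtain ⟨b, hb⟩ := Ideal.Quotient.mk_surjective (h' 1)
  refine ⟨Ideal.Quotient.mk _ b, ?_⟩
  have hab : Ideal.Quotient.mk J[m + n₀] a = Ideal.Quotient.mk _ (b * t ^ n₀) := by
    rw [← hca, ← mul_one c, ← smul_eq_mul, map_smul, ← hb, smul_eq_mul, ← map_mul, mul_comm]
  rw [hab, ψ_mk, ψ_mk, frac_shift]

theorem injective_Q : Module.Injective R (Q x) := by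
  refine Module.Baer.injective fun J g => ?_
  obtain ⟨S, hS⟩ := IsNoetherian.noetherian (⊤ : Submodule R J)
  classical
  choose nf hnf1 hnf using fun j : J => exists_ψ x (g j)
  let m := S.sup nf + 1
  have hgJ : ∀ j : J, g j ∈ LinearMap.range (ψ x m) := fun j => by
    have hj : j ∈ Submodule.span R (S : Set J) := hS ▸ Submodule.mem_top
    induction hj using Submodule.span_induction with
    | mem j hj => exact range_ψ_mono x ((Finset.le_sup hj).trans (Nat.le_succ _)) (hnf j)
    | zero => rw [map_zero]; exact Submodule.zero_mem _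
    | add u v _ _ hu hv => rw [map_add]; exact Submodule.add_mem _ hu hv
    | smul r u _ hu => rw [map_smul]; exact Submodule.smul_mem _ r hu
  have hkill : ∀ r ∈ J[m], ∀ j : J, r • g j = 0 := fun r hr j => by
    obtain ⟨z, hz⟩ := hgJ j
    obtain ⟨z, rfl⟩ := Ideal.Quotient.mk_surjective z
    rw [← hz, ← map_smul]
    refine (congrArg (ψ x m) ?_).trans (map_zero _)
    exact Ideal.Quotient.eq_zero_iff_mem.mpr (Ideal.mul_mem_right _ _ hr)
  obtain ⟨c, hc⟩ : ∃ c : ℕ, maximalIdeal R ^ c ≤ J[m] := by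
    refine Ideal.exists_pow_le_of_le_radical_of_fg ?_ (IsNoetherian.noetherian _)
    rw [← hx, Ideal.radical_le_radical_iff, Ideal.span_le]
    rintro _ ⟨i, rfl⟩
    exact ⟨m, Ideal.subset_span ⟨i, rfl⟩⟩
  obtain ⟨k, hk⟩ := Ideal.exists_pow_inf_eq_pow_smul (maximalIdeal R) (M := R) J
  let N := max m (c + k)
  have hNJ : ∀ j : J, (j : R) ∈ J[N] → g j = 0 := fun j hj => by
    have hJN : J[N] ≤ maximalIdeal R ^ (c + k) := Ideal.span_le.mpr (by
      rintro _ ⟨i, rfl⟩
      exact Ideal.pow_le_pow_right (le_max_right m (c + k)) (Ideal.pow_mem_pow (x_mem x hd hx i) N))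
    have h1 : (j : R) ∈ maximalIdeal R ^ c • J := by
      have h2 : (j : R) ∈ maximalIdeal R ^ (c + k) • (⊤ : Submodule R R) ⊓ J :=
        ⟨by rw [smul_eq_mul, Ideal.mul_top]; exact hJN hj, j.2⟩
      rw [hk (c + k) (by omega), show c + k - k = c by omega] at h2
      exact Submodule.smul_mono le_rfl inf_le_right h2
    have h3 : j ∈ maximalIdeal R ^ c • (⊤ : Submodule R J) := (Submodule.mem_smul_top_iff _ _ j).mpr h1
    refine Submodule.smul_induction_on (p := fun j => g j = 0) h3 (fun r hr u _ => ?_) (fun u v hu hv => ?_)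
    · rw [map_smul]; exact hkill r (hc hr) u
    · rw [map_add, hu, hv, add_zero]
  obtain ⟨_, -, hinj⟩ := quotient_spec x hd hx N (le_trans (by omega) (le_max_left m (c + k)))
  let Rb := R ⧸ J[N]
  let π : J →ₗ[R] Rb := (Submodule.mkQ J[N]).comp (Submodule.subtype J)
  have hN1 : 1 ≤ N := le_trans (by omega) (le_max_left m (c + k))
  have hgN : ∀ j, g j ∈ LinearMap.range (ψ x N) := fun j => range_ψ_mono x (le_max_left _ _) (hgJ j)
  let γ : J →ₗ[R] Rb := (LinearEquiv.ofInjective (ψ x N) (ψ_injective x hd hx hN1)).symm.toLinearMap.comp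
    (g.codRestrict _ hgN)
  have hγ : ∀ j, ψ x N (γ j) = g j := fun j => by
    simp only [γ, LinearMap.comp_apply, LinearEquiv.coe_toLinearMap]
    exact congrArg Subtype.val ((LinearEquiv.ofInjective (ψ x N) (ψ_injective x hd hx hN1)).apply_symm_apply
      ⟨g j, hgN j⟩)
  have hker : LinearMap.ker π ≤ LinearMap.ker γ := fun j hj => by
    refine LinearMap.mem_ker.mpr (ψ_injective x hd hx hN1 ?_)
    rw [hγ, map_zero]
    exact hNJ j ((Submodule.Quotient.mk_eq_zero _).mp hj)
  let γ₀ : LinearMap.range π →ₗ[R] Rb :=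
    (Submodule.liftQ _ γ hker).comp π.quotKerEquivRange.symm.toLinearMap
  let P : Ideal Rb :=
    { carrier := {z | z ∈ LinearMap.range π}
      add_mem' := fun ha hb => (LinearMap.range π).add_mem ha hb
      zero_mem' := (LinearMap.range π).zero_mem
      smul_mem' := fun c z hz => by
        obtain ⟨c, rfl⟩ := Ideal.Quotient.mk_surjective c
        exact (LinearMap.range π).smul_mem c hz }
  let γ₁ : P →ₗ[Rb] Rb :=
    { toFun := fun z => γ₀ ⟨z.1, z.2⟩
      map_add' := fun a b => γ₀.map_add ⟨a.1, a.2⟩ ⟨b.1, b.2⟩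
      map_smul' := fun c z => by
        obtain ⟨c, rfl⟩ := Ideal.Quotient.mk_surjective c
        exact γ₀.map_smul c ⟨z.1, z.2⟩ }
  obtain ⟨G, hG⟩ := Module.Injective.extension_property Rb Rb _ _ P.subtype (Submodule.injective_subtype _) γ₁
  refine ⟨(ψ x N).comp ((G.restrictScalars R).comp (Submodule.mkQ J[N])), fun r hr => ?_⟩
  have h1 : G (Submodule.Quotient.mk r) = γ ⟨r, hr⟩ := by
    refine (LinearMap.congr_fun hG ⟨Submodule.Quotient.mk r, ⟨r, hr⟩, rfl⟩).trans ?_
    change Submodule.liftQ _ γ hker (π.quotKerEquivRange.symm ⟨π ⟨r, hr⟩, ⟨⟨r, hr⟩, rfl⟩⟩) = γ ⟨r, hr⟩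
    rw [LinearMap.quotKerEquivRange_symm_apply_image π ⟨r, hr⟩ ⟨⟨r, hr⟩, rfl⟩]
    rfl
  exact (congrArg (ψ x N) h1).trans (hγ ⟨r, hr⟩)

theorem exists_hull : ∃ f : ResidueField R →ₗ[R] Q x, _root_.InjHull.IsInjectiveHull f := by
  obtain ⟨_, _, hA⟩ := quotient_spec x hd hx 1 le_rfl
  let Rb := R ⧸ J[1]
  obtain ⟨φ, hφ⟩ := Basic.exists_socle_of_artinian (A := Rb)
  have hh := Basic.hull_of_injective hφ hA
  have : IsLocalHom (Ideal.Quotient.mk J[1]) := IsLocalHom.of_surjective _ Ideal.Quotient.mk_surjective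
  let s : Rb := φ 1
  have hs0 : s ≠ 0 := fun h => one_ne_zero (hφ (h.trans (map_zero φ).symm))
  have hs : ∀ a ∈ maximalIdeal R, a • s = 0 := fun a ha => by
    have hmem : Ideal.Quotient.mk J[1] a ∈ maximalIdeal Rb :=
      (map_mem_nonunits_iff (Ideal.Quotient.mk J[1]) a).mpr ha
    exact (InjHull.Matlis.mem_range_iff hh).mp ⟨1, rfl⟩ _ hmem
  let f : ResidueField R →ₗ[R] Q x := (ψ x 1).comp
    (Submodule.liftQ (maximalIdeal R) (LinearMap.toSpanSingleton R Rb s) fun a ha => hs a ha)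
  have hf : Function.Injective f := by
    refine (ψ_injective x hd hx le_rfl).comp ((injective_iff_map_eq_zero _).mpr fun c hc => ?_)
    obtain ⟨c, rfl⟩ := Submodule.Quotient.mk_surjective _ c
    change c • s = 0 at hc
    refine (Submodule.Quotient.mk_eq_zero (maximalIdeal R)).mpr ?_
    by_contra hcm
    exact hs0 ((IsLocalRing.notMem_maximalIdeal.mp hcm).smul_eq_zero.mp hc)
  have hsoc : ∀ y : Q x, (∀ a ∈ maximalIdeal R, a • y = 0) → y ∈ LinearMap.range f := fun y hy => by
    obtain ⟨z, rfl⟩ := mem_range_of_killed x hd hx le_rfl y fun i => by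
      rw [pow_one]; exact hy _ (x_mem x hd hx i)
    have hz : z ∈ LinearMap.range φ := (InjHull.Matlis.mem_range_iff hh).mpr fun b hb => by
      obtain ⟨b, rfl⟩ := Ideal.Quotient.mk_surjective b
      have hbm : b ∈ maximalIdeal R := (map_mem_nonunits_iff (Ideal.Quotient.mk J[1]) b).mp hb
      refine ψ_injective x hd hx le_rfl ?_
      rw [map_zero]
      exact ((ψ x 1).map_smul b z).trans (hy b hbm)
    obtain ⟨c, rfl⟩ := hz
    obtain ⟨c, rfl⟩ := IsLocalRing.residue_surjective c
    obtain ⟨c, rfl⟩ := Ideal.Quotient.mk_surjective c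
    refine ⟨Submodule.Quotient.mk c, congrArg (ψ x 1) ?_⟩
    change c • s = _
    refine (φ.map_smul (Ideal.Quotient.mk J[1] c) 1).symm.trans (congrArg φ ?_)
    rw [Algebra.smul_def, mul_one]
    rfl
  refine ⟨f, InjHull.Basic.isEssentialInj_iff.mpr ⟨hf, fun y hy => ?_⟩, injective_Q x hd hx⟩
  -- a socle multiple
  obtain ⟨n, hn⟩ : ∃ n, ∀ a ∈ maximalIdeal R ^ n, a • y = 0 := by
    obtain ⟨m, hm, z, rfl⟩ := exists_ψ x y
    obtain ⟨c, hc⟩ : ∃ c : ℕ, maximalIdeal R ^ c ≤ J[m] := by
      refine Ideal.exists_pow_le_of_le_radical_of_fg ?_ (IsNoetherian.noetherian _)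
      rw [← hx, Ideal.radical_le_radical_iff, Ideal.span_le]
      rintro _ ⟨i, rfl⟩
      exact ⟨m, Ideal.subset_span ⟨i, rfl⟩⟩
    refine ⟨c, fun a ha => ?_⟩
    obtain ⟨z, rfl⟩ := Ideal.Quotient.mk_surjective z
    rw [← map_smul]
    exact (congrArg (ψ x m) (Ideal.Quotient.eq_zero_iff_mem.mpr (Ideal.mul_mem_right _ _ (hc ha)))).trans (map_zero _)
  induction n generalizing y with
  | zero => exact absurd (by simpa using hn 1 (by simp)) hy
  | succ n ih =>
    by_cases hall : ∀ a ∈ maximalIdeal R, a • y = 0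
    · exact ⟨1, by rw [one_smul]; exact hsoc y hall, by rwa [one_smul]⟩
    push Not at hall
    obtain ⟨a, ha, hay⟩ := hall
    obtain ⟨r, hr, hr0⟩ := ih (a • y) hay fun b hb => by
      rw [smul_smul]; exact hn _ (by rw [pow_succ]; exact Ideal.mul_mem_mul hb ha)
    exact ⟨r * a, by rwa [mul_smul], by rwa [mul_smul]⟩

end Groth.Agent.Gor.CechHull
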