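import Groth.Agent.Gor.Ring

/-!
# Gorenstein fibres: composition, field-valued points
-/

universe u

open CategoryTheory IsLocalRing Algebra.TensorProduct
open scoped TensorProduct

namespace Groth.Agent.Gor.Fibre

variable {B C : Type u} [CommRing B] [CommRing C] [Algebra B C]

/-- If all fibres of `B → C` are Gorenstein, so is `L ⊗_B C` for every field `L` essentially of
finite type over `B`. -/
theorem isGorensteinRing_field_tensor
    (hF : ∀ (r : Ideal B) [r.IsPrime], LocCoh.IsGorensteinRing (r.Fiber C))
    (L : Type u) [Field L] [Algebra B L] [Algebra.EssFiniteType B L] :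
    LocCoh.IsGorensteinRing (L ⊗[B] C) := by
  let r : Ideal B := RingHom.ker (algebraMap B L)
  have : r.IsPrime := RingHom.ker_isPrime _
  let f : r.ResidueField →ₐ[B] L := Ideal.ResidueField.liftₐ r (Algebra.ofId B L) le_rfl
    (fun x hx => IsUnit.mk0 _ hx)
  let := f.toRingHom.toAlgebra
  have : IsScalarTower B r.ResidueField L := .of_algebraMap_eq fun c => (f.commutes c).symm
  have : Algebra.EssFiniteType r.ResidueField L := .of_comp B _ _
  refine Ring.isGorensteinRing_of_ringEquiv
    ((Algebra.TensorProduct.comm r.ResidueField (r.Fiber C) L).toRingEquiv.trans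
      (Algebra.TensorProduct.cancelBaseChange B r.ResidueField L L C).toRingEquiv)
    (Ring.isGorensteinRing_tensor_fg_field (hF r))

variable [IsNoetherianRing C] [Module.Flat B C]

/-- Base change of a Gorenstein ring essentially of finite type along a flat map with Gorenstein
fibres. -/
theorem isGorensteinRing_baseChange (X : Type u) [CommRing X] [Algebra B X]
    [Algebra.EssFiniteType B X]
    (hX : LocCoh.IsGorensteinRing X)
    (hF : ∀ (r : Ideal B) [r.IsPrime], LocCoh.IsGorensteinRing (r.Fiber C)) :
    LocCoh.IsGorensteinRing (X ⊗[B] C) := by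
  have := hX.toIsNoetherian
  have : IsNoetherianRing (X ⊗[B] C) :=
    have : IsNoetherianRing (C ⊗[B] X) := Algebra.EssFiniteType.isNoetherianRing C _
    isNoetherianRing_of_ringEquiv (C ⊗[B] X) (Algebra.TensorProduct.comm B C X).toRingEquiv
  refine Ring.isGorensteinRing_of_flat hX fun P _ => ?_
  have : Algebra.EssFiniteType B P.ResidueField := .comp B X _
  exact Ring.isGorensteinRing_of_ringEquiv
    (Algebra.TensorProduct.cancelBaseChange B X X P.ResidueField C).symm.toRingEquiv
    (isGorensteinRing_field_tensor hF P.ResidueField)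

/-- Gorenstein fibres compose. -/
theorem isGorensteinRing_fiber_comp {A : Type u} [CommRing A] [Algebra A B] [Algebra A C]
    [IsScalarTower A B C]
    (hAB : ∀ (q : Ideal A) [q.IsPrime], LocCoh.IsGorensteinRing (q.Fiber B))
    (hBC : ∀ (r : Ideal B) [r.IsPrime], LocCoh.IsGorensteinRing (r.Fiber C))
    (q : Ideal A) [q.IsPrime] : LocCoh.IsGorensteinRing (q.Fiber C) := by
  have hX : LocCoh.IsGorensteinRing (B ⊗[A] q.ResidueField) :=
    Ring.isGorensteinRing_of_ringEquiv
      (Algebra.TensorProduct.comm A q.ResidueField B).toRingEquiv (hAB q)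
  exact Ring.isGorensteinRing_of_ringEquiv
    (((Algebra.TensorProduct.comm B (B ⊗[A] q.ResidueField) C).toRingEquiv.trans
      (Algebra.TensorProduct.cancelBaseChange A B C C q.ResidueField).toRingEquiv).trans
      (Algebra.TensorProduct.comm A C q.ResidueField).toRingEquiv)
    (isGorensteinRing_baseChange _ hX hBC)

end Groth.Agent.Gor.Fibre
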