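import Groth.Agent.InjHull.Prime
import Groth.Agent.RegLoc.PD
import Mathlib.Algebra.Category.ModuleCat.Ext.Finite
import Mathlib.Algebra.Category.ModuleCat.Ext.Basic
import Mathlib.RingTheory.Nakayama
import Mathlib.RingTheory.LocalRing.ResidueField.Basic

/-!
# Injective dimension over Noetherian rings

* `subsingleton_ext_of_residue`: for a Noetherian local ring and a finite module, vanishing of
  `Ext^i(k, M)` for `i ≥ i₀` implies the same vanishing against every cyclic module.
* change of rings along a regular element.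
-/

set_option autoImplicit false

universe u

open CategoryTheory Abelian

namespace Groth.Agent.Gor.InjDim

open Groth.Agent.InjHull

variable {R : Type u} [CommRing R]

theorem subsingleton_ext_middle {S : ShortComplex (ModuleCat.{u} R)} (hS : S.ShortExact)
    {Y : ModuleCat.{u} R} {i : ℕ} (h₁ : Subsingleton (Ext S.X₁ Y i))
    (h₃ : Subsingleton (Ext S.X₃ Y i)) : Subsingleton (Ext S.X₂ Y i) := by
  refine subsingleton_of_forall_eq 0 fun x => ?_
  obtain ⟨y, rfl⟩ := Ext.contravariant_sequence_exact₂ hS Y x (h₁.elim _ _)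
  rw [h₃.elim y 0, Ext.comp_zero]

theorem subsingleton_ext_of_iso {X X' Y : ModuleCat.{u} R} (e : X ≅ X') {i : ℕ}
    (h : Subsingleton (Ext X Y i)) : Subsingleton (Ext X' Y i) := by
  refine subsingleton_of_forall_eq 0 fun x => ?_
  have h1 : x = (Ext.mk₀ e.inv).comp ((Ext.mk₀ e.hom).comp x (zero_add i)) (zero_add i) := by
    rw [Ext.mk₀_comp_mk₀_assoc, e.inv_hom_id, Ext.mk₀_id_comp]
  rw [h1, h.elim ((Ext.mk₀ e.hom).comp x (zero_add i)) 0, Ext.comp_zero]

variable (R) in
/-- The short exact sequence `0 → R/K → R/I → R/J → 0`. -/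
theorem exists_shortExact_colon (I : Ideal R) (a : R) :
    ∃ (f : (R ⧸ LinearMap.ker (I.mkQ.comp (LinearMap.mulLeft R a))) →ₗ[R] R ⧸ I)
      (g : (R ⧸ I) →ₗ[R] R ⧸ (I ⊔ Ideal.span {a}))
      (h : g.comp f = 0), (ModuleCat.shortComplexOfCompEqZero f g h).ShortExact ∧
      ∀ c : R, f (Submodule.Quotient.mk c) = Submodule.Quotient.mk (a * c) := by
  let φ : R →ₗ[R] R ⧸ I := I.mkQ.comp (LinearMap.mulLeft R a)
  let f := (LinearMap.ker φ).liftQ φ le_rfl
  let g : (R ⧸ I) →ₗ[R] R ⧸ (I ⊔ Ideal.span {a}) := Submodule.factor le_sup_left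
  have hex : Function.Exact f g := by
    rw [LinearMap.exact_iff]
    ext z
    obtain ⟨z, rfl⟩ := Submodule.Quotient.mk_surjective _ z
    rw [LinearMap.mem_ker, LinearMap.mem_range]
    change Submodule.Quotient.mk z = 0 ↔ _
    rw [Submodule.Quotient.mk_eq_zero]
    constructor
    · intro hz
      obtain ⟨i, hi, w, hw, rfl⟩ := Submodule.mem_sup.mp hz
      obtain ⟨c, rfl⟩ := Ideal.mem_span_singleton'.mp hw
      refine ⟨Submodule.Quotient.mk c, ?_⟩
      change φ c = _
      simp only [φ, LinearMap.comp_apply, LinearMap.mulLeft_apply, Submodule.mkQ_apply]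
      rw [Submodule.Quotient.eq]
      have : a * c - (i + c * a) = -i := by ring
      rw [this]; exact I.neg_mem hi
    · rintro ⟨c, hc⟩
      obtain ⟨c, rfl⟩ := Submodule.Quotient.mk_surjective _ c
      change Submodule.Quotient.mk (a * c) = Submodule.Quotient.mk z at hc
      rw [Submodule.Quotient.eq] at hc
      have : z = a * c - (a * c - z) := by ring
      rw [this]
      exact Ideal.sub_mem _ (Submodule.mem_sup_right (Ideal.mul_mem_right c _ (Ideal.mem_span_singleton_self a)))
        (Submodule.mem_sup_left hc)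
  exact ⟨f, g, hex.linearMap_comp_eq_zero, ModuleCat.shortComplex_shortExact _ hex
    (LinearMap.ker_eq_bot.mp (Submodule.ker_liftQ_eq_bot' _ _ rfl))
    (Submodule.factor_surjective (show I ≤ I ⊔ Ideal.span {a} from le_sup_left)), fun c => rfl⟩

variable [IsNoetherianRing R]

/-- Key vanishing: `Ext^i(k, M) = 0` for all `i ≥ i₀` forces `Ext^i(R/I, M) = 0` for all `i ≥ i₀`. -/
theorem subsingleton_ext_of_residue [IsLocalRing R] (M : Type u) [AddCommGroup M] [Module R M]
    [Module.Finite R M] (i₀ : ℕ)
    (h : ∀ i, i₀ ≤ i → Subsingleton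
      (Ext (ModuleCat.of R (IsLocalRing.ResidueField R)) (ModuleCat.of R M) i)) :
    ∀ I : Ideal R, ∀ i, i₀ ≤ i →
      Subsingleton (Ext (ModuleCat.of R (R ⧸ I)) (ModuleCat.of R M) i) := by
  intro I
  induction I using WellFoundedGT.induction with
  | ind I ih =>
    intro i hi
    by_cases htop : I = ⊤
    · subst htop
      have : Limits.IsZero (ModuleCat.of R (R ⧸ (⊤ : Ideal R))) :=
        ModuleCat.isZero_of_subsingleton _
      exact subsingleton_of_forall_eq 0 fun x => by
        rw [← Ext.mk₀_id_comp x, this.eq_of_src (𝟙 _) 0, Ext.mk₀_zero, Ext.zero_comp]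
    by_cases hpr : I.IsPrime
    · by_cases hmax : I = IsLocalRing.maximalIdeal R
      · subst hmax
        exact h i hi
      obtain ⟨x, hxm, hxI⟩ := SetLike.exists_of_lt (lt_of_le_of_ne (IsLocalRing.le_maximalIdeal htop) hmax)
      obtain ⟨f, g, hfg, hS, hfc⟩ := exists_shortExact_colon R I x
      have hker : LinearMap.ker (I.mkQ.comp (LinearMap.mulLeft R x)) = I := by
        ext z
        simp only [LinearMap.mem_ker, LinearMap.comp_apply, LinearMap.mulLeft_apply,
          Submodule.mkQ_apply, Submodule.Quotient.mk_eq_zero]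
        exact ⟨fun hz => (hpr.mem_or_mem hz).resolve_left hxI, fun hz => I.mul_mem_left x hz⟩
      have hlt : I < I ⊔ Ideal.span {x} :=
        lt_of_le_of_ne le_sup_left fun h' => hxI (by
          rw [h']; exact Submodule.mem_sup_right (Ideal.mem_span_singleton_self x))
      let X := ModuleCat.of R (R ⧸ I)
      let e : ModuleCat.of R (R ⧸ LinearMap.ker (I.mkQ.comp (LinearMap.mulLeft R x))) ≅ X :=
        (Submodule.quotEquivOfEq (LinearMap.ker (I.mkQ.comp (LinearMap.mulLeft R x))) I hker).toModuleIso
      -- multiplication by `x` on `Ext^i(R/I, M)` is surjective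
      have hsurj : ∀ y : Ext X (ModuleCat.of R M) i, ∃ z, x • z = y := by
        intro y
        obtain ⟨z, hz⟩ := Ext.contravariant_sequence_exact₁ hS (ModuleCat.of R M)
          ((Ext.mk₀ e.hom).comp y (zero_add i)) (add_comm 1 i)
          ((ih _ hlt (i + 1) (hi.trans i.le_succ)).elim _ _)
        refine ⟨z, ?_⟩
        have hfe : ModuleCat.ofHom f = e.hom ≫ (x • 𝟙 X) := by
          refine ModuleCat.hom_ext (Submodule.linearMap_qext _ (LinearMap.ext fun c => ?_))
          change f (Submodule.Quotient.mk c) = x • (Submodule.Quotient.mk c : R ⧸ I)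
          rw [hfc]
          rw [← Submodule.Quotient.mk_smul, smul_eq_mul]
        have hz' : (Ext.mk₀ (ModuleCat.ofHom f)).comp z (zero_add i) =
            (Ext.mk₀ e.hom).comp y (zero_add i) := hz
        have := congrArg (fun w => (Ext.mk₀ e.inv).comp w (zero_add i)) hz'
        simp only [Ext.mk₀_comp_mk₀_assoc, e.inv_hom_id, Ext.mk₀_id_comp, hfe,
          Iso.inv_hom_id_assoc] at this
        rw [← this, Ext.mk₀_smul, Ext.smul_comp, Ext.mk₀_id_comp]
      have htopext : (⊤ : Submodule R (Ext X (ModuleCat.of R M) i)) = ⊥ := by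
        refine Submodule.eq_bot_of_le_smul_of_le_jacobson_bot (IsLocalRing.maximalIdeal R) _
          (Module.Finite.fg_top) (fun y _ => ?_) (IsLocalRing.maximalIdeal_le_jacobson _)
        obtain ⟨z, rfl⟩ := hsurj y
        exact Submodule.smul_mem_smul hxm trivial
      refine subsingleton_of_forall_eq 0 fun y => ?_
      have hy : y ∈ (⊤ : Submodule R (Ext X (ModuleCat.of R M) i)) := trivial
      rw [htopext] at hy
      exact hy
    · obtain ⟨a, ha, b, hb, hab⟩ := Ideal.not_isPrime_iff.mp hpr |>.resolve_left htop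
      obtain ⟨f, g, hfg, hS, -⟩ := exists_shortExact_colon R I a
      have hltK : I < LinearMap.ker (I.mkQ.comp (LinearMap.mulLeft R a)) := by
        refine lt_of_le_of_ne (fun z hz => ?_) fun h' => hb ?_
        · rw [LinearMap.mem_ker, LinearMap.comp_apply, LinearMap.mulLeft_apply, Submodule.mkQ_apply,
            Submodule.Quotient.mk_eq_zero]
          exact I.mul_mem_left a hz
        · rw [h', LinearMap.mem_ker, LinearMap.comp_apply, LinearMap.mulLeft_apply, Submodule.mkQ_apply,
            Submodule.Quotient.mk_eq_zero]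
          exact hab
      have hltJ : I < I ⊔ Ideal.span {a} :=
        lt_of_le_of_ne le_sup_left fun h' => ha (by
          rw [h']; exact Submodule.mem_sup_right (Ideal.mem_span_singleton_self a))
      exact subsingleton_ext_middle hS (ih _ hltK i hi) (ih _ hltJ i hi)

theorem hasInjectiveDimensionLT_of_residue [IsLocalRing R] (M : Type u) [AddCommGroup M] [Module R M]
    [Module.Finite R M] (n : ℕ)
    (h : ∀ i, n + 1 ≤ i → Subsingleton
      (Ext (ModuleCat.of R (IsLocalRing.ResidueField R)) (ModuleCat.of R M) i)) :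
    HasInjectiveDimensionLT (ModuleCat.of R M) (n + 1) :=
  RegLoc.PD.hasInjectiveDimensionLT_of_forall_cyclic n _ fun I =>
    subsingleton_ext_of_residue M (n + 1) h I (n + 1) le_rfl

section ChangeOfRings

variable {x : R}

omit [IsNoetherianRing R] in
theorem divisible_of_injective (hx : IsSMulRegular R x) {I : Type u} [AddCommGroup I] [Module R I]
    (hI : Module.Injective R I) (y : I) : ∃ z, x • z = y := by
  obtain ⟨l, hl⟩ := Basic.extend hI (LinearMap.mulLeft R x) hx (LinearMap.toSpanSingleton R I y)
  refine ⟨l 1, ?_⟩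
  have := LinearMap.congr_fun hl 1
  rw [← map_smul]
  simpa using this

/-- `M[x]` as a module over `R/(x)` -/
abbrev tors (x : R) (M : Type u) [AddCommGroup M] [Module R M] : ModuleCat.{u} (R ⧸ Ideal.span {x}) :=
  ModuleCat.of (R ⧸ Ideal.span {x}) (LocCoh.torsionBy (Ideal.span {x}) M)

omit [IsNoetherianRing R] in
theorem mem_tors_iff {M : Type u} [AddCommGroup M] [Module R M] {m : M} :
    m ∈ LocCoh.torsionBy (Ideal.span {x}) M ↔ x • m = 0 := by
  constructor
  · exact fun h => (Submodule.mem_torsionBySet_iff _ _).mp h ⟨x, Ideal.mem_span_singleton_self x⟩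
  · intro h
    refine (Submodule.mem_torsionBySet_iff _ _).mpr fun ⟨c, hc⟩ => ?_
    obtain ⟨d, rfl⟩ := Ideal.mem_span_singleton'.mp hc
    change (d * x) • m = 0
    rw [mul_smul, h, smul_zero]

omit [IsNoetherianRing R] in
/-- A linear map restricts to torsion parts, linearly over the quotient ring. -/
def torsMap (x : R) {M N : Type u} [AddCommGroup M] [Module R M] [AddCommGroup N] [Module R N]
    (f : M →ₗ[R] N) :
    LocCoh.torsionBy (Ideal.span {x}) M →ₗ[R ⧸ Ideal.span {x}] LocCoh.torsionBy (Ideal.span {x}) N where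
  toFun m := ⟨f m, (Submodule.mem_torsionBySet_iff _ _).mpr fun c => by
    rw [← map_smul, (Submodule.mem_torsionBySet_iff _ _).mp m.2 c, map_zero]⟩
  map_add' a b := Subtype.ext (map_add f _ _)
  map_smul' c a := by
    obtain ⟨c, rfl⟩ := Ideal.Quotient.mk_surjective c
    exact Subtype.ext (map_smul f c _)

omit [IsNoetherianRing R] in
theorem id_tors (hx : IsSMulRegular R x) : ∀ (n : ℕ) (C : Type u) [AddCommGroup C] [Module R C],
    (∀ y : C, ∃ z, x • z = y) → HasInjectiveDimensionLT (ModuleCat.of R C) (n + 1) →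
      HasInjectiveDimensionLT (tors x C) (n + 1) := by
  intro n
  induction n with
  | zero =>
    intro C _ _ _ h
    have hinj : Module.Injective R C :=
      Module.injective_module_of_injective_object (inj := injective_iff_hasInjectiveDimensionLT_one.mpr h) R C
    exact injective_iff_hasInjectiveDimensionLT_one.mp
      (Module.injective_object_of_injective_module (inj := Prime.injective_torsionBy _ hinj) _ _)
  | succ n ih =>
    intro C _ _ hdiv h
    obtain ⟨J, _, _, i, hi, hJ⟩ := Basic.exists_injective_embedding R C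
    let q := (LinearMap.range i).mkQ
    have hS : (ModuleCat.shortComplexOfCompEqZero i q (LinearMap.range_mkQ_comp i)).ShortExact :=
      ModuleCat.shortComplex_shortExact _ (LinearMap.exact_map_mkQ_range i) hi (Submodule.mkQ_surjective _)
    have hJ' : Injective (ModuleCat.of R J) :=
      Module.injective_object_of_injective_module (inj := hJ) R J
    have hC' := (hS.hasInjectiveDimensionLT_X₃_iff n hJ').mpr h
    have hdiv' : ∀ y : J ⧸ LinearMap.range i, ∃ z, x • z = y := fun y => by
      obtain ⟨y, rfl⟩ := Submodule.Quotient.mk_surjective _ y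
      obtain ⟨z, rfl⟩ := divisible_of_injective hx hJ y
      exact ⟨Submodule.Quotient.mk z, rfl⟩
    have h' := ih _ hdiv' hC'
    have hex : Function.Exact (torsMap x i) (torsMap x q) := by
      intro y
      constructor
      · intro hy
        have hy' : q (y : J) = 0 := congrArg Subtype.val hy
        obtain ⟨c, hc⟩ := (Submodule.Quotient.mk_eq_zero _).mp hy'
        refine ⟨⟨c, mem_tors_iff.mpr (hi ?_)⟩, Subtype.ext hc⟩
        rw [map_smul, hc, map_zero]
        exact mem_tors_iff.mp y.2
      · rintro ⟨c, rfl⟩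
        exact Subtype.ext ((Submodule.Quotient.mk_eq_zero _).mpr ⟨(c : C), rfl⟩)
    have hsurj : Function.Surjective (torsMap x q) := by
      intro y
      obtain ⟨j, hj⟩ := Submodule.mkQ_surjective (LinearMap.range i) (y : J ⧸ LinearMap.range i)
      have hxy : q (x • j) = 0 := by rw [map_smul, hj]; exact mem_tors_iff.mp y.2
      obtain ⟨c, hc⟩ := (Submodule.Quotient.mk_eq_zero _).mp hxy
      obtain ⟨d, rfl⟩ := hdiv c
      refine ⟨⟨j - i d, mem_tors_iff.mpr ?_⟩, Subtype.ext ?_⟩
      · rw [smul_sub, ← map_smul, hc, sub_self]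
      · change q (j - i d) = _
        rw [map_sub, hj, show q (i d) = 0 from (Submodule.Quotient.mk_eq_zero _).mpr ⟨d, rfl⟩, sub_zero]
    have hinj : Function.Injective (torsMap x i) := fun a b hab =>
      Subtype.ext (hi (congrArg Subtype.val hab))
    have hS' := ModuleCat.shortComplex_shortExact
      (ModuleCat.shortComplexOfCompEqZero _ _ hex.linearMap_comp_eq_zero) hex hinj hsurj
    exact (hS'.hasInjectiveDimensionLT_X₃_iff n
      (Module.injective_object_of_injective_module (inj := Prime.injective_torsionBy _ hJ) _ _)).mp h'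

omit [IsNoetherianRing R] in
/-- If `x` is regular on `R` and on `M`, and `id M < n + 2`, then `id_{R/x} M/xM < n + 1`. -/
theorem id_quotient (hx : IsSMulRegular R x) {n : ℕ} (M : Type u) [AddCommGroup M] [Module R M]
    (hxM : IsSMulRegular M x) (h : HasInjectiveDimensionLT (ModuleCat.of R M) (n + 2)) :
    HasInjectiveDimensionLT (ModuleCat.of (R ⧸ Ideal.span {x})
      (M ⧸ Ideal.span {x} • (⊤ : Submodule R M))) (n + 1) := by
  obtain ⟨J, _, _, i, hi, hJ⟩ := Basic.exists_injective_embedding R M
  let q := (LinearMap.range i).mkQ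
  have hS : (ModuleCat.shortComplexOfCompEqZero i q (LinearMap.range_mkQ_comp i)).ShortExact :=
    ModuleCat.shortComplex_shortExact _ (LinearMap.exact_map_mkQ_range i) hi (Submodule.mkQ_surjective _)
  have hC' := (hS.hasInjectiveDimensionLT_X₃_iff n
    (Module.injective_object_of_injective_module (inj := hJ) R J)).mpr h
  have hdiv' : ∀ y : J ⧸ LinearMap.range i, ∃ z, x • z = y := fun y => by
    obtain ⟨y, rfl⟩ := Submodule.Quotient.mk_surjective _ y
    obtain ⟨z, rfl⟩ := divisible_of_injective hx hJ y
    exact ⟨Submodule.Quotient.mk z, rfl⟩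
  have h' := id_tors hx n _ hdiv' hC'
  let A := LocCoh.torsionBy (Ideal.span {x}) J
  let Bq := LocCoh.torsionBy (Ideal.span {x}) (J ⧸ LinearMap.range i)
  let Q := M ⧸ Ideal.span {x} • (⊤ : Submodule R M)
  -- the connecting map
  let N : Submodule R J := (LinearMap.range i).comap (LinearMap.lsmul R J x)
  let π : N →ₗ[R] Bq := (q.comp N.subtype).codRestrict _ fun j => mem_tors_iff.mpr (by
    rw [LinearMap.comp_apply, ← map_smul]
    exact (Submodule.Quotient.mk_eq_zero _).mpr j.2)
  have hπ : Function.Surjective π := by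
    intro y
    obtain ⟨j, hj⟩ := Submodule.mkQ_surjective (LinearMap.range i) (y : J ⧸ LinearMap.range i)
    refine ⟨⟨j, ?_⟩, Subtype.ext hj⟩
    change x • j ∈ LinearMap.range i
    rw [← Submodule.Quotient.mk_eq_zero, Submodule.Quotient.mk_smul]
    have h0 := mem_tors_iff.mp y.2
    rw [← hj] at h0
    exact h0
  let ψ : N →ₗ[R] Q := (Submodule.mkQ _).comp ((LinearEquiv.ofInjective i hi).symm.toLinearMap.comp
    ((LinearMap.lsmul R J x).restrict (p := N) (q := LinearMap.range i) fun j hj => hj))
  have hψ : ∀ (j : N) (m : M), i m = x • (j : J) → ψ j = Submodule.Quotient.mk m := by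
    intro j m hm
    have : (LinearMap.lsmul R J x).restrict (p := N) (q := LinearMap.range i) (fun j hj => hj) j =
        LinearEquiv.ofInjective i hi m := Subtype.ext hm.symm
    simp only [ψ, LinearMap.comp_apply, this, LinearEquiv.coe_coe, LinearEquiv.symm_apply_apply,
      Submodule.mkQ_apply]
  have hle : LinearMap.ker π ≤ LinearMap.ker ψ := by
    intro j hj
    obtain ⟨m, hm⟩ := (Submodule.Quotient.mk_eq_zero _).mp (congrArg Subtype.val hj)
    rw [LinearMap.mem_ker, hψ j (x • m) (by rw [map_smul, hm]; rfl), Submodule.Quotient.mk_eq_zero]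
    exact Submodule.smul_mem_smul (Ideal.mem_span_singleton_self x) trivial
  let δ₀ : Bq →ₗ[R] Q :=
    ((LinearMap.ker π).liftQ ψ hle).comp (π.quotKerEquivOfSurjective hπ).symm.toLinearMap
  have hδ₀ : ∀ j : N, δ₀ (π j) = ψ j := fun j => by
    have : (π.quotKerEquivOfSurjective hπ).symm (π j) = Submodule.Quotient.mk j :=
      (LinearEquiv.symm_apply_eq _).mpr rfl
    simp [δ₀, this]
  let δ : Bq →ₗ[R ⧸ Ideal.span {x}] Q :=
    { toFun := δ₀, map_add' := map_add δ₀,
      map_smul' := fun c y => by
        obtain ⟨c, rfl⟩ := Ideal.Quotient.mk_surjective c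
        exact map_smul δ₀ c y }
  have hδ : Function.Surjective δ := by
    intro y
    obtain ⟨m, rfl⟩ := Submodule.Quotient.mk_surjective _ y
    obtain ⟨j, hj⟩ := divisible_of_injective hx hJ (i m)
    have hjN : j ∈ N := ⟨m, hj.symm⟩
    exact ⟨π ⟨j, hjN⟩, (hδ₀ _).trans (hψ _ m hj.symm)⟩
  have hex : Function.Exact (torsMap x q) δ := by
    intro y
    obtain ⟨j, rfl⟩ := hπ y
    obtain ⟨m, hm⟩ := (show x • (j : J) ∈ LinearMap.range i from j.2)
    constructor
    · intro h0
      have h0' : ψ j = 0 := (hδ₀ j).symm.trans h0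
      rw [hψ j m hm, Submodule.Quotient.mk_eq_zero,
        Submodule.ideal_span_singleton_smul] at h0'
      obtain ⟨m', -, rfl⟩ := h0'
      refine ⟨⟨(j : J) - i m', mem_tors_iff.mpr ?_⟩, Subtype.ext ?_⟩
      · rw [smul_sub, ← map_smul, ← hm]; exact sub_self _
      · change q ((j : J) - i m') = q j
        rw [map_sub, show q (i m') = 0 from (Submodule.Quotient.mk_eq_zero _).mpr ⟨m', rfl⟩, sub_zero]
    · rintro ⟨a, ha⟩
      have ha' : q (a : J) = q j := congrArg Subtype.val ha
      have haN : (a : J) ∈ N := ⟨0, by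
        rw [map_zero]; exact (mem_tors_iff.mp a.2).symm⟩
      have hπa : π ⟨a, haN⟩ = π j := Subtype.ext ha'
      change δ₀ (π j) = 0
      rw [← hπa, hδ₀, hψ _ 0 (by rw [map_zero]; exact (mem_tors_iff.mp a.2).symm)]
      rfl
  have hinj : Function.Injective (torsMap x q) := by
    rw [← LinearMap.ker_eq_bot, Submodule.eq_bot_iff]
    intro a ha
    obtain ⟨m, hm⟩ := (Submodule.Quotient.mk_eq_zero _).mp (congrArg Subtype.val ha)
    refine Subtype.ext ?_
    have hxm : x • m = 0 := hi (by rw [map_smul, hm, map_zero]; exact mem_tors_iff.mp a.2)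
    have hm0 : m = 0 := hxM (hxm.trans (smul_zero x).symm)
    rw [← hm, hm0, map_zero]
    rfl
  have hS' := ModuleCat.shortComplex_shortExact
    (ModuleCat.shortComplexOfCompEqZero _ _ hex.linearMap_comp_eq_zero) hex hinj hδ
  refine hS'.hasInjectiveDimensionLT_X₃ (n + 1) h' ?_
  have : Injective (ModuleCat.of (R ⧸ Ideal.span {x}) A) :=
    Module.injective_object_of_injective_module (inj := Prime.injective_torsionBy _ hJ) _ _
  exact hasInjectiveDimensionLT_of_ge _ 1 (n + 1 + 1) (by omega)

set_option maxHeartbeats 1000000 in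
omit [IsNoetherianRing R] in
/-- Restricting scalars along `R → R/x` raises the injective dimension by at most one. -/
theorem id_restrict (hx : IsSMulRegular R x) : ∀ (n : ℕ) (M : Type u) [AddCommGroup M] [Module R M]
    [Module (R ⧸ Ideal.span {x}) M] [IsScalarTower R (R ⧸ Ideal.span {x}) M],
    HasInjectiveDimensionLT (ModuleCat.of (R ⧸ Ideal.span {x}) M) (n + 1) →
      HasInjectiveDimensionLT (ModuleCat.of R M) (n + 2) := by
  intro n
  induction n with
  | zero =>
    intro M _ _ _ _ h
    have hMinj : Module.Injective (R ⧸ Ideal.span {x}) M :=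
      Module.injective_module_of_injective_object
        (inj := injective_iff_hasInjectiveDimensionLT_one.mpr h) _ _
    obtain ⟨J, _, _, f, hf⟩ := Basic.exists_isInjectiveHull R M
    have hkill : ∀ m : M, x • m = 0 := fun m => by
      rw [← algebraMap_smul (R ⧸ Ideal.span {x}) x, Ideal.Quotient.algebraMap_eq,
        Ideal.Quotient.eq_zero_iff_mem.mpr (Ideal.mem_span_singleton_self x), zero_smul]
    let A := LocCoh.torsionBy (Ideal.span {x}) J
    let f' : M →ₗ[R ⧸ Ideal.span {x}] A :=
      { toFun := fun m => ⟨f m, mem_tors_iff.mpr (by rw [← map_smul, hkill, map_zero])⟩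
        map_add' := fun a b => Subtype.ext (map_add f a b)
        map_smul' := fun c a => by
          obtain ⟨c, rfl⟩ := Ideal.Quotient.mk_surjective c
          refine Subtype.ext ?_
          change f (Ideal.Quotient.mk _ c • a) = c • f a
          rw [← map_smul, ← Ideal.Quotient.algebraMap_eq, algebraMap_smul] }
    have hf' : Function.Injective f' := fun a b hab => hf.injective (congrArg Subtype.val hab)
    obtain ⟨D, hD⟩ := Basic.exists_isCompl_of_injective (LinearMap.range f')
      (Basic.injective_of_equiv hMinj (LinearEquiv.ofInjective f' hf'))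
    have hrange : ∀ a : J, x • a = 0 → a ∈ LinearMap.range f := by
      intro a ha
      obtain ⟨p, hp, d, hd, hpd⟩ := Submodule.mem_sup.mp
        (hD.sup_eq_top ▸ Submodule.mem_top (x := (⟨a, mem_tors_iff.mpr ha⟩ : A)))
      have hd0 : d = 0 := by
        by_contra hd0
        obtain ⟨r, m, hm, hr0⟩ := Basic.exists_smul_mem_range hf.toIsEssentialInj
          (x := (d : J)) (by simpa using hd0)
        have h2 : Ideal.Quotient.mk (Ideal.span {x}) r • d = 0 :=
          Submodule.disjoint_def.mp hD.disjoint _ ⟨m, Subtype.ext hm⟩ (D.smul_mem _ hd)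
        exact hr0 (congrArg Subtype.val h2)
      obtain ⟨m, rfl⟩ := hp
      exact ⟨m, by
        have := congrArg Subtype.val hpd
        rwa [hd0, add_zero] at this⟩
    have hex : Function.Exact f (x • LinearMap.id : J →ₗ[R] J) := by
      intro a
      constructor
      · intro ha
        exact hrange a ha
      · rintro ⟨m, rfl⟩
        simp [← map_smul, hkill]
    have hS := ModuleCat.shortComplex_shortExact
      (ModuleCat.shortComplexOfCompEqZero _ _ hex.linearMap_comp_eq_zero) hex hf.injective
      (fun y => divisible_of_injective hx hf.isInjective y)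
    have : Injective (ModuleCat.of R J) :=
      Module.injective_object_of_injective_module (inj := hf.isInjective) R J
    exact hS.hasInjectiveDimensionLT_X₁ 1 (injective_iff_hasInjectiveDimensionLT_one.mp this)
      (hasInjectiveDimensionLT_of_ge _ 1 2 (by omega))
  | succ n ih =>
    intro M _ _ _ _ h
    obtain ⟨J, _, _, i, hi, hJ⟩ := Basic.exists_injective_embedding (R ⧸ Ideal.span {x}) M
    let : Module R J := Module.compHom J (Ideal.Quotient.mk (Ideal.span {x}))
    have : IsScalarTower R (R ⧸ Ideal.span {x}) J := IsScalarTower.of_algebraMap_smul fun _ _ => rfl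
    have hS : (ModuleCat.shortComplexOfCompEqZero i (LinearMap.range i).mkQ
        (LinearMap.range_mkQ_comp i)).ShortExact :=
      ModuleCat.shortComplex_shortExact _ (LinearMap.exact_map_mkQ_range i) hi (Submodule.mkQ_surjective _)
    have hJ' : Injective (ModuleCat.of (R ⧸ Ideal.span {x}) J) :=
      Module.injective_object_of_injective_module (inj := hJ) _ _
    have hQ := ih _ ((hS.hasInjectiveDimensionLT_X₃_iff n hJ').mpr h)
    have hJ2 : HasInjectiveDimensionLT (ModuleCat.of R J) (n + 2 + 1) := by
      have h1 : HasInjectiveDimensionLT (ModuleCat.of (R ⧸ Ideal.span {x}) J) (n + 1) :=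
        hasInjectiveDimensionLT_of_ge _ 1 (n + 1) (by omega)
      have := ih J h1
      exact hasInjectiveDimensionLT_of_ge _ (n + 2) (n + 2 + 1) (by omega)
    let i' : M →ₗ[R] J := i.restrictScalars R
    let q' : J →ₗ[R] J ⧸ LinearMap.range i := (LinearMap.range i).mkQ.restrictScalars R
    have hex : Function.Exact i' q' := fun y => LinearMap.exact_map_mkQ_range i y
    have hi' : Function.Injective i' := fun a b hab => hi hab
    have hq' : Function.Surjective q' := fun y => Submodule.mkQ_surjective _ y
    have hS2 := ModuleCat.shortComplex_shortExact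
      (ModuleCat.shortComplexOfCompEqZero i' q' hex.linearMap_comp_eq_zero) hex hi' hq'
    exact hS2.hasInjectiveDimensionLT_X₁ (n + 2) hQ hJ2

end ChangeOfRings

end Groth.Agent.Gor.InjDim
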