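import Groth.Agent.KReg44.Basic
import Groth.Agent.CAlgLib.UnivInj
import Mathlib.RingTheory.IsTensorProduct

/-!
# Base change of Koszul-regular sequences with flat quotient
-/

universe u

open CategoryTheory TensorProduct

namespace Groth.Agent.Gor.KoszulBaseChange

section

variable {A : Type u} [CommRing A] {X : ℤ → Type u} [∀ i, AddCommGroup (X i)] [∀ i, Module A (X i)]
  (d : ∀ i j, X i →ₗ[A] X j)

/-- universal exactness of an exact complex of flat modules with flat cokernel in degree zero -/
theorem exact_lTensor [∀ i, Module.Flat A (X i)] (h0 : Module.Flat A (X 0 ⧸ LinearMap.range (d (-1) 0)))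
    (hex : ∀ i j k, i + 1 = j → j + 1 = k → j < 0 → Function.Exact (d i j) (d j k))
    (M : Type u) [AddCommGroup M] [Module A M] (i j k : ℤ) (hij : i + 1 = j) (hjk : j + 1 = k) (hj : j < 0) :
    Function.Exact ((d i j).lTensor M) ((d j k).lTensor M) := by
  have key : ∀ i j k (h1 : i + 1 = j) (h2 : j + 1 = k) (h3 : j < 0)
      (_ : Module.Flat A (X k ⧸ LinearMap.range (d j k))),
      Module.Flat A (X j ⧸ LinearMap.range (d i j)) ∧
        Function.Exact ((d i j).lTensor M) ((d j k).lTensor M) := by
    intro i j k h1 h2 h3 hflat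
    have he := hex i j k h1 h2 h3
    let ψ : (X j ⧸ LinearMap.range (d i j)) →ₗ[A] X k :=
      Submodule.liftQ _ (d j k) (he.linearMap_ker_eq).ge
    have hψ : Function.Injective ψ := by
      rw [← LinearMap.ker_eq_bot, Submodule.ker_liftQ, he.linearMap_ker_eq,
        ← LinearMap.le_ker_iff_map, Submodule.ker_mkQ]
    have hψex : Function.Exact ψ (LinearMap.range (d j k)).mkQ := by
      rw [LinearMap.exact_iff, Submodule.ker_mkQ, Submodule.range_liftQ]
    have hu := CAlgLib.UnivInj.universallyInjective_of_flat hψex hψ (Submodule.mkQ_surjective _)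
    refine ⟨CAlgLib.UnivInj.flat_left hu, ?_⟩
    have hinj : Function.Injective (ψ.lTensor M) :=
      LinearMap.lTensor_injective_of_exact_of_flat _ (Submodule.mkQ_surjective _) ψ hψ hψex M
    have hr := lTensor_exact M (LinearMap.exact_map_mkQ_range (d i j)) (Submodule.mkQ_surjective _)
    have hc : (d j k).lTensor M = (ψ.lTensor M).comp ((LinearMap.range (d i j)).mkQ.lTensor M) := by
      rw [← LinearMap.lTensor_comp, Submodule.liftQ_mkQ]
    intro t
    rw [hc, LinearMap.comp_apply, map_eq_zero_iff _ hinj]
    exact hr t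
  have hC : ∀ (n : ℕ) (j k : ℤ), j + 1 = k → k = -(n : ℤ) → Module.Flat A (X k ⧸ LinearMap.range (d j k)) := by
    intro n
    induction n with
    | zero =>
      intro j k h hk
      obtain rfl : k = 0 := by simpa using hk
      obtain rfl : j = -1 := by omega
      exact h0
    | succ n ih =>
      intro j k h hk
      exact (key j k (k + 1) h rfl (by omega) (ih k (k + 1) rfl (by omega))).1
  exact (key i j k hij hjk hj (hC (-k).toNat j k hjk (by omega))).2

end

variable {A P : Type u} [CommRing A] [CommRing P] [Algebra A P]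

/-- exactness after base change, from exactness after tensoring over the base -/
theorem exact_of_pushout {K : Type u} [CommRing K] [Algebra A K] {S : Type u} [CommRing S] [Algebra K S]
    [Algebra P S] [Algebra A S] [IsScalarTower A K S] [IsScalarTower A P S] [Algebra.IsPushout A K P S]
    {X Y Z : Type u} [AddCommGroup X] [Module P X] [AddCommGroup Y] [Module P Y] [AddCommGroup Z] [Module P Z]
    [Module A X] [IsScalarTower A P X] [Module A Y] [IsScalarTower A P Y] [Module A Z] [IsScalarTower A P Z]
    (f : X →ₗ[P] Y) (g : Y →ₗ[P] Z)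
    (h : Function.Exact ((f.restrictScalars A).lTensor K) ((g.restrictScalars A).lTensor K)) :
    Function.Exact (f.lTensor S) (g.lTensor S) := by
  have comm : ∀ {X' Y' : Type u} [AddCommGroup X'] [Module P X'] [AddCommGroup Y'] [Module P Y'] [Module A X']
      [IsScalarTower A P X'] [Module A Y'] [IsScalarTower A P Y'] (φ : X' →ₗ[P] Y') (t : K ⊗[A] X'),
      φ.lTensor S ((Algebra.IsPushout.cancelBaseChange A K P S X').symm t) =
        (Algebra.IsPushout.cancelBaseChange A K P S Y').symm ((φ.restrictScalars A).lTensor K t) := by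
    intro X' Y' _ _ _ _ _ _ _ _ φ t
    induction t using TensorProduct.induction_on with
    | zero => simp
    | tmul s m => simp [Algebra.IsPushout.cancelBaseChange_symm_tmul]
    | add x y hx hy => simp only [map_add, hx, hy]
  intro t
  obtain ⟨t, rfl⟩ := (Algebra.IsPushout.cancelBaseChange A K P S Y).symm.surjective t
  rw [comm g, map_eq_zero_iff _ (LinearEquiv.injective _), h t]
  constructor
  · rintro ⟨w, rfl⟩
    exact ⟨_, comm f w⟩
  · rintro ⟨w, hw⟩
    obtain ⟨w, rfl⟩ := (Algebra.IsPushout.cancelBaseChange A K P S X).symm.surjective w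
    rw [comm f] at hw
    exact ⟨w, (Algebra.IsPushout.cancelBaseChange A K P S Y).symm.injective hw⟩

/-- the cokernel of the last differential -/
theorem nonempty_quotient_range (l : List P) :
    Nonempty ((P ⧸ Ideal.ofList l) ≃ₗ[P]
      ((Koszul.koszul P l).X 0 ⧸ LinearMap.range ((Koszul.koszul P l).d (-1) 0).hom)) := by
  let ev : P →ₗ[P] (Koszul.koszul P l).X 0 := LinearMap.toSpanSingleton P _ (KoszulWiebe.e0 l)
  let q := (LinearMap.range ((Koszul.koszul P l).d (-1) 0).hom).mkQ.comp ev
  have hq : Function.Surjective q := fun x => by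
    obtain ⟨x, rfl⟩ := Submodule.mkQ_surjective _ x
    exact ⟨(KoszulWiebe.t0 l).hom x, congrArg _ (KoszulWiebe.eq_smul_e0 l x).symm⟩
  have hk : LinearMap.ker q = Ideal.ofList l := by
    ext a
    rw [LinearMap.mem_ker, LinearMap.comp_apply, Submodule.mkQ_apply, Submodule.Quotient.mk_eq_zero]
    constructor
    · rintro ⟨w, hw⟩
      have h1 : (KoszulWiebe.t0 l).hom (ev a) = a := by
        rw [LinearMap.toSpanSingleton_apply, map_smul, KoszulWiebe.t0_e0, smul_eq_mul, mul_one]
      rw [← h1, ← hw]
      have h2 := Submodule.mem_map_of_mem (f := (KoszulWiebe.t0 l).hom) (KoszulWiebe.d_mem l (-1) 0 w)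
      rw [Submodule.map_smul''] at h2
      refine (?_ : _ ≤ Ideal.ofList l) h2
      exact Submodule.smul_le.mpr fun r hr x _ => Ideal.mul_mem_right _ _ hr
    · intro ha
      exact KoszulWiebe.exists_boundary l a ha
  exact ⟨(Submodule.quotEquivOfEq _ _ hk.symm).trans (q.quotKerEquivOfSurjective hq)⟩

/-- Koszul regularity survives any base change of the ground ring, when the quotient is flat. -/
theorem isKoszulRegularSeq_map {K : Type u} [CommRing K] [Algebra A K] {S : Type u} [CommRing S] [Algebra K S]
    [Algebra P S] [Algebra A S] [IsScalarTower A K S] [IsScalarTower A P S] [Algebra.IsPushout A K P S]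
    [Module.Flat A P] {l : List P} (hl : LCI.IsKoszulRegularSeq P l) (hflat : Module.Flat A (P ⧸ Ideal.ofList l)) :
    LCI.IsKoszulRegularSeq S (l.map (algebraMap P S)) := by
  intro i hi
  rcases lt_or_gt_of_ne hi with hi | hi
  swap
  · exact HomologicalComplex.ExactAt.isZero_homology
      (CochainComplex.exactAt_of_isLE (Koszul.koszul S (l.map (algebraMap P S))) 0 i hi)
  let Kc := Koszul.koszul P l
  letI : ∀ j, Module A (Kc.X j) := fun j => Module.compHom _ (algebraMap A P)
  haveI : ∀ j, IsScalarTower A P (Kc.X j) := fun j => IsScalarTower.of_compHom A P _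
  haveI : ∀ j, Module.Flat A (Kc.X j) := fun j => by
    have : Module.Projective P (Kc.X j) :=
      (IsProjective.iff_projective (Kc.X j)).mpr (KoszulWiebe.projective_X l j)
    exact Module.Flat.trans A P _
  let d : ∀ a b, Kc.X a →ₗ[A] Kc.X b := fun a b => (Kc.d a b).hom.restrictScalars A
  have h0 : Module.Flat A (Kc.X 0 ⧸ LinearMap.range (d (-1) 0)) := by
    obtain ⟨e⟩ := nonempty_quotient_range l
    exact Module.Flat.of_linearEquiv
      ((Submodule.quotEquivOfEq _ _ (LinearMap.range_restrictScalars _).symm).trans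
        ((Submodule.Quotient.restrictScalarsEquiv A _).trans (e.restrictScalars A).symm))
  have hex : ∀ a b c, a + 1 = b → b + 1 = c → b < 0 → Function.Exact (d a b) (d b c) := by
    intro a b c hab hbc hb
    have h := (Kc.exactAt_iff_isZero_homology b).2 (hl b (by omega))
    rw [HomologicalComplex.exactAt_iff' Kc a b c (by simp [← hab]) (by simp [← hbc])] at h
    exact (ShortComplex.ShortExact.moduleCat_exact_iff_function_exact _).mp h
  have hKt := exact_lTensor d h0 hex K ((ComplexShape.up ℤ).prev i) i ((ComplexShape.up ℤ).next i)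
    (by simp) (by simp) hi
  have hS := exact_of_pushout (A := A) (K := K) (S := S) (Kc.d ((ComplexShape.up ℤ).prev i) i).hom (Kc.d i ((ComplexShape.up ℤ).next i)).hom hKt
  obtain ⟨e⟩ := KoszulWiebe.nonempty_koszulIso (algebraMap P S) l
  refine (HomologicalComplex.exactAt_iff_isZero_homology _ _).1 (HomologicalComplex.ExactAt.of_iso ?_ e)
  obtain ⟨φ, hφ⟩ : ∃ φ : P →+* S, φ = algebraMap P S := ⟨_, rfl⟩
  rw [← hφ]
  have hinst : ‹Algebra P S› = φ.toAlgebra := Algebra.algebra_ext _ _ fun r => by rw [hφ]; rfl
  subst hinst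
  exact (ShortComplex.ShortExact.moduleCat_exact_iff_function_exact _).mpr hS

end Groth.Agent.Gor.KoszulBaseChange
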