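import Groth.Agent.Gor.KoszulBaseChange
import Groth.Agent.Gor.LCI
import Groth.Agent.KReg44.Basic
import Mathlib.RingTheory.TensorProduct.MvPolynomial
import Mathlib.RingTheory.Localization.BaseChange
import Mathlib.RingTheory.Flat.Localization

/-!
# Fibres of flat local complete intersection maps are Gorenstein
-/

universe u

open TensorProduct

namespace Groth.Agent.Gor.LCI

open Algebra.TensorProduct (includeRight)

variable {A P : Type u} [CommRing A] [CommRing P] [Algebra A P] [Module.Flat A P]

attribute [local instance] Algebra.TensorProduct.rightAlgebra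

/-- Koszul-regular ideals with flat quotient survive base change -/
theorem isKoszulRegularIdeal_baseChange (K : Type u) [CommRing K] [Algebra A K] {I : Ideal P}
    (hI : _root_.LCI.IsKoszulRegularIdeal I) (hflat : Module.Flat A (P ⧸ I)) :
    _root_.LCI.IsKoszulRegularIdeal (I.map (includeRight (R := A) (A := K) (B := P))) := by
  intro Q hQ
  let ρ : P →+* K ⊗[A] P := (includeRight (R := A) (A := K) (B := P)).toRingHom
  obtain ⟨g, hg, l, hl, hspan⟩ := hI ⟨Q.asIdeal.comap ρ, inferInstance⟩ (Ideal.map_le_iff_le_comap.mp hQ)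
  let P' := Localization.Away g
  have : Module.Flat P P' := IsLocalization.flat P' (Submonoid.powers g)
  have : Module.Flat A P' := Module.Flat.trans A P P'
  have hspan' : I.map (algebraMap P P') = Ideal.ofList l := hspan
  have hflat' : Module.Flat A (P' ⧸ Ideal.ofList l) := by
    have : Module.Flat A ((P ⧸ I) ⊗[P] P') := Module.Flat.trans A (P ⧸ I) _
    have : Module.Flat A (P' ⊗[P] (P ⧸ I)) :=
      Module.Flat.of_linearEquiv ((TensorProduct.comm P P' (P ⧸ I)).restrictScalars A)
    exact Module.Flat.of_linearEquiv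
      (((Submodule.quotEquivOfEq _ _ hspan'.symm).restrictScalars A).trans
        ((Algebra.TensorProduct.quotIdealMapEquivTensorQuot P' I).toLinearEquiv.restrictScalars A))
  let R' := Localization.Away (ρ g)
  let S := K ⊗[A] P'
  have hS : _root_.LCI.IsKoszulRegularSeq S (l.map (algebraMap P' S)) :=
    KoszulBaseChange.isKoszulRegularSeq_map (A := A) (K := K) hl hflat'
  -- comparison with the localization
  let θ : K ⊗[A] P →ₐ[A] S :=
    Algebra.TensorProduct.map (AlgHom.id A K) (IsScalarTower.toAlgHom A P P')
  have hu : IsUnit (θ.toRingHom (ρ g)) := by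
    have : θ.toRingHom (ρ g) = algebraMap P' S (algebraMap P P' g) := rfl
    rw [this]
    exact (IsLocalization.Away.algebraMap_isUnit (S := P') g).map _
  let β : R' →+* S := IsLocalization.Away.lift (ρ g) hu
  have hρA : ∀ a : A, algebraMap (K ⊗[A] P) R' (ρ (algebraMap A P a)) = algebraMap A R' a := fun a => by
    change algebraMap (K ⊗[A] P) R' (includeRight (algebraMap A P a)) = _
    rw [AlgHom.commutes, ← IsScalarTower.algebraMap_apply]
  have hawm : ∀ p, Localization.awayMap ρ g (algebraMap P P' p) = algebraMap (K ⊗[A] P) R' (ρ p) :=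
    fun p => by simp [P', R', Localization.awayMap, IsLocalization.Away.map]
  let γ : P' →ₐ[A] R' :=
    { toRingHom := Localization.awayMap ρ g
      commutes' := fun a => by
        change Localization.awayMap ρ g (algebraMap A P' a) = _
        rw [IsScalarTower.algebraMap_apply A P P']
        exact (hawm _).trans (hρA a) }
  let ξ : K →ₐ[A] R' := (IsScalarTower.toAlgHom A (K ⊗[A] P) R').comp Algebra.TensorProduct.includeLeft
  let α : S →ₐ[A] R' := Algebra.TensorProduct.lift ξ γ fun x y => Commute.all _ _
  have hβθ : ∀ x, β (algebraMap (K ⊗[A] P) R' x) = θ x := fun x => IsLocalization.Away.lift_eq _ hu x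
  have hαθ : ∀ x, α (θ x) = algebraMap (K ⊗[A] P) R' x := fun x => by
    induction x using TensorProduct.induction_on with
    | zero => simp
    | tmul k p =>
      rw [Algebra.TensorProduct.map_tmul, Algebra.TensorProduct.lift_tmul]
      have : γ (IsScalarTower.toAlgHom A P P' p) = algebraMap (K ⊗[A] P) R' (ρ p) := hawm p
      rw [this]
      change algebraMap (K ⊗[A] P) R' (k ⊗ₜ[A] (1 : P)) * algebraMap (K ⊗[A] P) R' ((1 : K) ⊗ₜ[A] p) = _
      rw [← map_mul, Algebra.TensorProduct.tmul_mul_tmul, mul_one, one_mul]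
    | add x y hx hy => simp only [map_add, hx, hy]
  have hαβ : α.toRingHom.comp β = RingHom.id R' := by
    refine IsLocalization.ringHom_ext (Submonoid.powers (ρ g)) (RingHom.ext fun x => ?_)
    change α (β (algebraMap _ R' x)) = algebraMap _ R' x
    rw [hβθ, hαθ]
  have hγ : ∀ y, β (γ y) = algebraMap P' S y := by
    refine fun y => RingHom.congr_fun (f := β.comp γ.toRingHom) (g := algebraMap P' S) ?_ y
    refine IsLocalization.ringHom_ext (Submonoid.powers g) (RingHom.ext fun p => ?_)
    change β (γ (algebraMap P P' p)) = algebraMap P' S (algebraMap P P' p)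
    rw [show γ (algebraMap P P' p) = algebraMap (K ⊗[A] P) R' (ρ p) from hawm p, hβθ]
    rfl
  have hξ : ∀ k : K, β (ξ k) = k ⊗ₜ[A] (1 : P') := fun k =>
    (hβθ (k ⊗ₜ 1)).trans (by rw [Algebra.TensorProduct.map_tmul, AlgHom.id_apply, map_one])
  have hβα : ∀ s, β (α s) = s := fun s => by
    induction s using TensorProduct.induction_on with
    | zero => simp
    | tmul k y =>
      rw [Algebra.TensorProduct.lift_tmul, map_mul, hγ, hξ,
        show algebraMap P' S y = (1 : K) ⊗ₜ[A] y from rfl,
        Algebra.TensorProduct.tmul_mul_tmul, mul_one, one_mul]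
    | add x y hx hy => simp only [map_add, hx, hy]
  have hαbij : Function.Bijective α.toRingHom :=
    ⟨fun a b h => (hβα a).symm.trans ((congrArg β h).trans (hβα b)),
      fun x => ⟨β x, RingHom.congr_fun hαβ x⟩⟩
  refine ⟨ρ g, hg, (l.map (algebraMap P' S)).map α.toRingHom,
    KReg44.isKoszulRegularSeq_map _ (RingHom.Flat.of_bijective hαbij) hS, ?_⟩
  have hcomp : (algebraMap (K ⊗[A] P) R').comp ρ = (α.toRingHom.comp (algebraMap P' S)).comp (algebraMap P P') :=
    RingHom.ext fun p => (hαθ (ρ p)).symm
  change (I.map ρ).map (algebraMap (K ⊗[A] P) R') = Ideal.ofList _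
  rw [Ideal.map_map, hcomp, ← Ideal.map_map, hspan', ← Ideal.map_map, Ideal.map_ofList, Ideal.map_ofList]

/-- the fibres of a flat local complete intersection map are Gorenstein -/
theorem isGorensteinRing_fiber {B : Type u} [CommRing B] [Algebra A B] [Module.Flat A B]
    (hl : _root_.LCI.IsLCI A B) (κ : Type u) [Field κ] [Algebra A κ] :
    LocCoh.IsGorensteinRing (κ ⊗[A] B) := by
  obtain ⟨-, n, f, hf, hreg⟩ := hl
  let Pn := MvPolynomial (Fin n) A
  have hflat : Module.Flat A (Pn ⧸ RingHom.ker f.toRingHom) :=
    Module.Flat.of_linearEquiv (Ideal.quotientKerAlgEquivOfSurjective hf).toLinearEquiv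
  have hPn : LocCoh.IsGorensteinRing (κ ⊗[A] Pn) :=
    Ring.isGorensteinRing_of_ringEquiv (MvPolynomial.algebraTensorAlgEquiv A κ).symm.toRingEquiv
      (Ring.isGorensteinRing_of_ringEquiv (MvPolynomial.renameEquiv κ Equiv.ulift).toRingEquiv
        (Ring.isGorensteinRing_mvPolynomial (ULift.{u} (Fin n))
          (Ring.isGorensteinRing_of_isRegularRing κ)))
  let F : κ ⊗[A] Pn →ₐ[A] κ ⊗[A] B := Algebra.TensorProduct.map (AlgHom.id A κ) f
  have hker : RingHom.ker F = (RingHom.ker f.toRingHom).map (includeRight (R := A) (A := κ) (B := Pn)) :=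
    Algebra.TensorProduct.lTensor_ker f hf
  have hF : Function.Surjective F.toRingHom := TensorProduct.map_surjective Function.surjective_id hf
  refine Ring.isGorensteinRing_of_ringEquiv
    ((Ideal.quotEquivOfEq hker.symm).trans (RingHom.quotientKerEquivOfSurjective hF))
    (isGorensteinRing_quotient_koszulRegular hPn _
      (isKoszulRegularIdeal_baseChange κ hreg hflat))

end Groth.Agent.Gor.LCI
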