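import Groth.Agent.LocCoh.Basic
import Groth.Agent.Gor.InjDim
import Groth.Agent.InjHull.Basic
import Groth.Prelude.Def_Wider

/-!
# Vanishing of `Ext(κ, M)` above the single nonzero, injective local cohomology
-/

universe u

open CategoryTheory CategoryTheory.Abelian IsLocalRing

namespace Groth.Agent.Gor.LocCohCriterion

variable {A : Type u} [CommRing A] [IsLocalRing A]

local notation "𝔪" => maximalIdeal A
local notation "κA" => ModuleCat.of A (ResidueField A)

/-- embedding into a hull, as a short exact sequence -/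
theorem exists_hull_ses (M : ModuleCat.{u} A) (h0 : Subsingleton ((localCohomology 𝔪 0).obj M)) :
    ∃ S : ShortComplex (ModuleCat.{u} A), S.ShortExact ∧ S.X₁ = M ∧ Injective S.X₂ ∧
      Subsingleton ((localCohomology 𝔪 0).obj S.X₂) := by
  obtain ⟨J, _, _, f, hf⟩ := InjHull.Basic.exists_isInjectiveHull A M
  have := hf.isInjective
  have hT : ∀ x ∈ DRing.torsionSub 𝔪 M, x = 0 := fun x hx => by
    have := (LocCoh.H0Equiv 𝔪 M).symm.toEquiv.subsingleton
    exact congrArg Subtype.val (Subsingleton.elim (⟨x, hx⟩ : DRing.torsionSub 𝔪 M) 0)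
  refine ⟨ShortComplex.mk (ModuleCat.ofHom f) (ModuleCat.ofHom (LinearMap.range f).mkQ)
    (by ext x; exact (Submodule.Quotient.mk_eq_zero _).mpr ⟨x, rfl⟩), ?_, rfl,
    Module.injective_object_of_injective_module A J, ?_⟩
  · exact ModuleCat.shortComplex_shortExact _ (LinearMap.exact_map_mkQ_range f) hf.injective
      (Submodule.mkQ_surjective _)
  · suffices h : DRing.torsionSub 𝔪 (ModuleCat.of A J) = ⊥ by
      have : Subsingleton (DRing.torsionSub 𝔪 (ModuleCat.of A J)) := by
        rw [h]; infer_instance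
      exact (LocCoh.H0Equiv 𝔪 (ModuleCat.of A J)).toEquiv.subsingleton
    refine (Submodule.eq_bot_iff _).mpr fun y hy => ?_
    by_contra hne
    obtain ⟨a, x, hxy, hne'⟩ := InjHull.Basic.exists_smul_mem_range hf.1 hne
    obtain ⟨n, hn⟩ := (DRing.torsionSub 𝔪 J).smul_mem a hy
    rw [← hxy] at hn hne'
    refine hne' (by rw [hT x ⟨n, fun b hb => hf.injective (by rw [map_smul, hn b hb, map_zero])⟩, map_zero])

/-- all local cohomology vanishes -/
theorem subsingleton_ext_of_vanish : ∀ (k : ℕ) (M : ModuleCat.{u} A),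
    (∀ i, Subsingleton ((localCohomology 𝔪 i).obj M)) → Subsingleton (Ext.{u} κA M k)
  | 0, M, h => by
    have := h 0
    have hT := (LocCoh.H0Equiv 𝔪 M).symm.toEquiv.subsingleton
    refine subsingleton_of_forall_eq 0 fun e => ?_
    obtain ⟨φ, rfl⟩ := (Ext.mk₀_bijective _ _).2 e
    suffices hφ : φ = 0 by rw [hφ, Ext.mk₀_zero]
    refine ModuleCat.hom_ext (LinearMap.ext fun c => ?_)
    obtain ⟨c, rfl⟩ := IsLocalRing.residue_surjective c
    have hmem : φ.hom (residue A c) ∈ DRing.torsionSub 𝔪 M := ⟨1, fun a ha => by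
      rw [pow_one] at ha
      rw [← map_smul]
      refine (congrArg φ.hom ?_).trans (map_zero _)
      rw [Algebra.smul_def]
      exact mul_eq_zero_of_left ((residue_eq_zero_iff _).mpr ha) _⟩
    exact congrArg Subtype.val (Subsingleton.elim (⟨_, hmem⟩ : DRing.torsionSub 𝔪 M) 0)
  | k + 1, M, h => by
    obtain ⟨S, hS, rfl, hJ, hJ0⟩ := exists_hull_ses M (h 0)
    have hJi : ∀ i, Subsingleton ((localCohomology 𝔪 i).obj S.X₂) := fun i => by
      cases i with
      | zero => exact hJ0
      | succ i => exact LocCoh.subsingleton_H_succ_of_injective S.X₂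
    have hC := subsingleton_ext_of_vanish k S.X₃ fun i =>
      LocCoh.subsingleton_X₃ hS (hJi i) (h (i + 1))
    refine subsingleton_of_forall_eq 0 fun e => ?_
    obtain ⟨c, rfl⟩ := Ext.covariant_sequence_exact₁ _ hS e (Ext.eq_zero_of_injective _) rfl
    rw [Subsingleton.elim c 0, Ext.zero_comp]

/-- local cohomology concentrated in degree `d` and injective there -/
theorem subsingleton_ext_of_single : ∀ (d : ℕ) (M : ModuleCat.{u} A),
    (∀ i, i ≠ d → Subsingleton ((localCohomology 𝔪 i).obj M)) →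
    Module.Injective A ((localCohomology 𝔪 d).obj M) →
    ∀ k, d < k → Subsingleton (Ext.{u} κA M k)
  | 0, M, h, hinj, k, hk => by
    let T := DRing.torsionSub 𝔪 M
    have hTinj : Module.Injective A T := InjHull.Basic.injective_of_equiv hinj (LocCoh.H0Equiv 𝔪 M)
    let S : ShortComplex (ModuleCat.{u} A) := ShortComplex.mk (ModuleCat.ofHom T.subtype)
      (ModuleCat.ofHom T.mkQ) (by ext x; exact (Submodule.Quotient.mk_eq_zero T).mpr x.2)
    have hS : S.ShortExact := ModuleCat.shortComplex_shortExact _ (LinearMap.exact_subtype_mkQ T)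
      T.injective_subtype T.mkQ_surjective
    have : Injective S.X₁ := Module.injective_object_of_injective_module A T
    have hQ : ∀ i, Subsingleton ((localCohomology 𝔪 i).obj S.X₃) := by
      intro i
      cases i with
      | succ i =>
        exact LocCoh.subsingleton_X₃ hS (h (i + 1) (by omega)) (LocCoh.subsingleton_H_succ_of_injective S.X₁)
      | zero =>
        have := LocCoh.subsingleton_H_succ_of_injective (I := 𝔪) (i := 0) S.X₁
        refine subsingleton_of_forall_eq 0 fun z => ?_
        obtain ⟨y, rfl⟩ := (LocCoh.exact₃ hS z).mp (Subsingleton.elim _ _)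
        obtain ⟨t, ht⟩ : ∃ t, ((localCohomology 𝔪 0).map S.f).hom t = y := by
          let y' : T := LocCoh.H0Equiv 𝔪 S.X₂ y
          obtain ⟨n, hn⟩ := y'.2
          refine ⟨(LocCoh.H0Equiv 𝔪 S.X₁).symm ⟨y', n, fun a ha => Subtype.ext (hn a ha)⟩,
            (LocCoh.H0Equiv 𝔪 S.X₂).injective (Subtype.ext ?_)⟩
          rw [LocCoh.H0Equiv_naturality, LinearEquiv.apply_symm_apply]
          rfl
        rw [← ht]
        exact (LocCoh.exact₂ (I := 𝔪) (i := 0) hS).apply_apply_eq_zero t
    obtain ⟨k, rfl⟩ : ∃ j, k = j + 1 := ⟨k - 1, by omega⟩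
    refine subsingleton_of_forall_eq 0 fun e => ?_
    have := subsingleton_ext_of_vanish (k + 1) S.X₃ hQ
    obtain ⟨c, rfl⟩ := Ext.covariant_sequence_exact₂ _ hS e (Subsingleton.elim _ _)
    rw [Ext.eq_zero_of_injective c, Ext.zero_comp]
  | d + 1, M, h, hinj, k, hk => by
    obtain ⟨S, hS, rfl, hJ, hJ0⟩ := exists_hull_ses M (h 0 (by omega))
    have hJi : ∀ i, Subsingleton ((localCohomology 𝔪 i).obj S.X₂) := fun i => by
      cases i with
      | zero => exact hJ0
      | succ i => exact LocCoh.subsingleton_H_succ_of_injective S.X₂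
    have hδ : Function.Bijective (LocCoh.δH (I := 𝔪) d hS) := by
      refine ⟨(injective_iff_map_eq_zero _).mpr fun z hz => ?_, fun z => ?_⟩
      · obtain ⟨y, rfl⟩ := (LocCoh.exact₃ hS z).mp hz
        have := hJi d
        rw [Subsingleton.elim y 0, map_zero]
      · exact (LocCoh.exact₁ hS z).mp (@Subsingleton.elim _ (hJi (d + 1)) _ _)
    have hC := subsingleton_ext_of_single d S.X₃
      (fun i hi => LocCoh.subsingleton_X₃ hS (hJi i) (h (i + 1) (by omega)))
      (InjHull.Basic.injective_of_equiv hinj (LinearEquiv.ofBijective _ hδ).symm)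
    obtain ⟨k, rfl⟩ : ∃ j, k = j + 1 := ⟨k - 1, by omega⟩
    refine subsingleton_of_forall_eq 0 fun e => ?_
    obtain ⟨c, rfl⟩ := Ext.covariant_sequence_exact₁ _ hS e (Ext.eq_zero_of_injective _) rfl
    have := hC k (by omega)
    rw [Subsingleton.elim c 0, Ext.zero_comp]

theorem isGorensteinLocalRing [IsNoetherianRing A] (d : ℕ)
    (h : ∀ i, i ≠ d → Subsingleton (_root_.LocCoh.H 𝔪 i A))
    (hinj : Module.Injective A (_root_.LocCoh.H 𝔪 d A)) : _root_.LocCoh.IsGorensteinLocalRing A :=
  { exists_hasInjectiveDimensionLT := ⟨d + 1, InjDim.hasInjectiveDimensionLT_of_residue A d fun i hi =>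
      subsingleton_ext_of_single d (ModuleCat.of A A) h hinj i hi⟩ }

end Groth.Agent.Gor.LocCohCriterion
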