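import Groth.Agent.Gor.Basic
import Mathlib.RingTheory.SimpleModule.Basic

/-!
# Gorenstein descends along pure unramified local maps

If every ideal of `A` is contracted from `B` and `m_A B = m_B`, then `B` Gorenstein gives `A` Gorenstein.
-/

set_option autoImplicit false
set_option linter.style.haveILetI false
universe u

open IsLocalRing

namespace Groth.Agent.Gor.PureDescent

theorem gorenstein_aux : ∀ (s : ℕ) (A B : Type u) [CommRing A] [IsLocalRing A] [IsNoetherianRing A]
    [CommRing B] [IsLocalRing B] [IsNoetherianRing B] [Algebra A B],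
    (∀ (I : Ideal A) (a : A), algebraMap A B a ∈ I.map (algebraMap A B) → a ∈ I) →
    (maximalIdeal A).map (algebraMap A B) = maximalIdeal B →
    ringKrullDim B = s → LocCoh.IsGorensteinLocalRing B → LocCoh.IsGorensteinLocalRing A := by
  intro s
  induction s using Nat.strong_induction_on with
  | _ s ih =>
  intro A B _ _ _ _ _ _ _ hpure hmax hs hB
  have hinj : Function.Injective (algebraMap A B) := (injective_iff_map_eq_zero _).2 fun a ha =>
    (Submodule.mem_bot A).1 (hpure ⊥ a (by rw [ha]; exact zero_mem _))
  by_cases hsoc : maximalIdeal B ∈ associatedPrimes B B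
  · -- dimension zero
    obtain ⟨-, φ, hφ⟩ := (isAssociatedPrime_iff_exists_injective_linearMap _ B).mp hsoc
    obtain ⟨n, hn⟩ := Basic.exists_hasInjectiveDimensionLT (A := B)
    have hBi := Basic.injective_of_socle_of_finite_id hφ n hn
    haveI : IsArtinianRing B := Basic.artinian_of_injective hφ hBi
    haveI : IsArtinianRing A := by
      rw [isArtinianRing_iff_isNilpotent_maximalIdeal]
      obtain ⟨N, hN⟩ := IsArtinianRing.isNilpotent_jacobson_bot (R := B)
      rw [IsLocalRing.jacobson_eq_maximalIdeal _ bot_ne_top] at hN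
      refine ⟨N, eq_bot_iff.2 fun a ha => ?_⟩
      rw [Ideal.mem_bot]
      refine hinj ?_
      rw [map_zero, ← Ideal.mem_bot, ← Ideal.zero_eq_bot, ← hN, ← hmax, ← Ideal.map_pow]
      exact Ideal.mem_map_of_mem _ ha
    obtain ⟨ψ, hψ⟩ := Basic.exists_socle_of_artinian (A := A)
    have hsimple : IsSimpleModule B (LocCoh.torsionBy (maximalIdeal B) B) :=
      Module.length_eq_one_iff.mp (Basic.length_socle_of_injective hφ hBi)
    let S := LocCoh.torsionBy (maximalIdeal A) A
    have hmem : ∀ a ∈ S, algebraMap A B a ∈ LocCoh.torsionBy (maximalIdeal B) B := by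
      intro a ha
      rw [Submodule.mem_torsionBySet_iff] at ha
      refine (Submodule.mem_torsionBySet_iff _ _).2 fun b => ?_
      obtain ⟨b, hb⟩ := b
      change b * algebraMap A B a = 0
      have hb' : b ∈ (maximalIdeal A).map (algebraMap A B) := hmax ▸ hb
      clear hb
      induction hb' using Submodule.span_induction with
      | mem y hy =>
        obtain ⟨c, hc, rfl⟩ := hy
        rw [← map_mul, show c * a = 0 from ha ⟨c, hc⟩, map_zero]
      | zero => rw [zero_mul]
      | add u v _ _ hu hv => rw [add_mul, hu, hv, add_zero]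
      | smul c u _ hu => rw [smul_mul_assoc, hu, smul_zero]
    let z : A := ψ 1
    have hz0 : z ≠ 0 := fun h => one_ne_zero (α := ResidueField A) (hψ (h.trans (map_zero ψ).symm))
    have hzS : z ∈ S := (Submodule.mem_torsionBySet_iff _ _).2 fun b => by
      change (b : A) • ψ 1 = 0
      rw [← map_smul, Groth.Agent.InjHull.Matlis.residue_smul_eq_zero b.2, map_zero]
    let t : A →ₗ[A] S := LinearMap.toSpanSingleton A S ⟨z, hzS⟩
    have hts : Function.Surjective t := by
      rintro ⟨a, ha⟩
      have hne : (⟨algebraMap A B z, hmem z hzS⟩ : LocCoh.torsionBy (maximalIdeal B) B) ≠ 0 :=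
        fun h => hz0 (hinj ((congrArg Subtype.val h).trans (map_zero _).symm))
      obtain ⟨c, hc⟩ := IsSimpleModule.toSpanSingleton_surjective B hne ⟨algebraMap A B a, hmem a ha⟩
      have hc' : c * algebraMap A B z = algebraMap A B a := congrArg Subtype.val hc
      have h1 : a ∈ Ideal.span {z} := hpure _ _ (by
        rw [← hc']
        exact Ideal.mul_mem_left _ _ (Ideal.mem_map_of_mem _ (Ideal.mem_span_singleton_self z)))
      obtain ⟨d, hd⟩ := Ideal.mem_span_singleton'.1 h1
      exact ⟨d, Subtype.ext hd⟩
    have hker : LinearMap.ker t = maximalIdeal A := by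
      refine ((maximalIdeal.isMaximal A).eq_of_le (fun h => ?_) fun b hb => ?_).symm
      · have h1 : t 1 = 0 := LinearMap.mem_ker.1 (h ▸ Submodule.mem_top)
        exact hz0 (by simpa [t] using congrArg Subtype.val h1)
      · rw [LinearMap.mem_ker]
        exact Subtype.ext ((Submodule.mem_torsionBySet_iff _ _).1 hzS ⟨b, hb⟩)
    refine Basic.gorenstein_of_injective (Basic.injective_of_simple_socle ?_)
    refine Module.length_eq_one_iff.mpr (isSimpleModule_iff_quot_maximal.mpr
      ⟨maximalIdeal A, inferInstance, ⟨?_⟩⟩)
    exact (t.quotKerEquivOfSurjective hts).symm.trans (Submodule.quotEquivOfEq _ _ hker)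
  · -- reduce modulo a common regular element
    obtain ⟨x, hxA, hxP⟩ : ∃ x ∈ maximalIdeal A, ∀ P ∈ associatedPrimes B B, algebraMap A B x ∉ P := by
      by_contra hc
      push Not at hc
      have hsub : (maximalIdeal A : Set A) ⊆ ⋃ P ∈ ((associatedPrimes.finite B B).toFinset : Set (Ideal B)),
          (P.comap (algebraMap A B) : Set A) := fun a ha => by
        obtain ⟨P, hP, haP⟩ := hc a ha
        exact Set.mem_biUnion (by simpa using hP) haP
      obtain ⟨P, hP, hle⟩ := (Ideal.subset_union_prime ⊥ ⊥ fun P hP _ _ => by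
        haveI := Depth.isPrime_of_mem_associatedPrimes ((Set.Finite.mem_toFinset _).1 hP)
        infer_instance).1 hsub
      have hPp := Depth.isPrime_of_mem_associatedPrimes ((Set.Finite.mem_toFinset _).1 hP)
      refine hsoc ?_
      rw [(maximalIdeal.isMaximal B).eq_of_le hPp.ne_top (hmax ▸ Ideal.map_le_iff_le_comap.2 hle)]
      exact (Set.Finite.mem_toFinset _).1 hP
    have hregB : IsSMulRegular B (algebraMap A B x) := by
      intro p q hpq
      by_contra hne
      have hx : algebraMap A B x ∈ {r : B | ∃ w : B, w ≠ 0 ∧ r • w = 0} :=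
        ⟨p - q, sub_ne_zero.2 hne, by rw [smul_sub, sub_eq_zero]; exact hpq⟩
      rw [← biUnion_associatedPrimes_eq_zero_divisors B B] at hx
      simp only [Set.mem_iUnion] at hx
      obtain ⟨P, hP, hxP'⟩ := hx
      exact hxP P hP hxP'
    have hregA : IsSMulRegular A x := fun p q hpq => hinj (hregB (by
      simp only [smul_eq_mul] at hpq ⊢
      rw [← map_mul, ← map_mul, hpq]))
    have hxB : algebraMap A B x ∈ maximalIdeal B := hmax ▸ Ideal.mem_map_of_mem _ hxA
    haveI := Basic.isLocalRing_quotient A hxA
    haveI := Basic.isLocalRing_quotient B hxB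
    let A' := A ⧸ Ideal.span {x}
    let B' := B ⧸ Ideal.span {algebraMap A B x}
    let f : A' →+* B' := Ideal.quotientMap _ (algebraMap A B) (by
      rw [Ideal.span_singleton_le_iff_mem, Ideal.mem_comap]
      exact Ideal.mem_span_singleton_self _)
    letI : Algebra A' B' := f.toAlgebra
    have hcomp : (algebraMap A' B').comp (Ideal.Quotient.mk _) =
        (Ideal.Quotient.mk (Ideal.span {algebraMap A B x})).comp (algebraMap A B) :=
      RingHom.ext fun _ => rfl
    have hpure' : ∀ (J : Ideal A') (a : A'), algebraMap A' B' a ∈ J.map (algebraMap A' B') → a ∈ J := by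
      intro J a ha
      obtain ⟨a, rfl⟩ := Ideal.Quotient.mk_surjective a
      rw [← Ideal.map_comap_of_surjective _ Ideal.Quotient.mk_surjective J, Ideal.map_map, hcomp,
        ← Ideal.map_map] at ha
      change Ideal.Quotient.mk _ (algebraMap A B a) ∈ _ at ha
      rw [← Ideal.mem_comap, Ideal.comap_map_of_surjective _ Ideal.Quotient.mk_surjective,
        ← RingHom.ker_eq_comap_bot, Ideal.mk_ker] at ha
      have hle : Ideal.span {x} ≤ J.comap (Ideal.Quotient.mk (Ideal.span {x})) := fun y hy => by
        rw [Ideal.mem_comap, Ideal.Quotient.eq_zero_iff_mem.2 hy]; exact zero_mem _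
      have h2 : Ideal.span {algebraMap A B x} ≤
          (J.comap (Ideal.Quotient.mk (Ideal.span {x}))).map (algebraMap A B) := by
        rw [show Ideal.span {algebraMap A B x} = (Ideal.span {x}).map (algebraMap A B) by
          rw [Ideal.map_span, Set.image_singleton]]
        exact Ideal.map_mono hle
      rw [sup_eq_left.2 h2] at ha
      exact Ideal.mem_comap.1 (hpure _ a ha)
    have hmax' : (maximalIdeal A').map (algebraMap A' B') = maximalIdeal B' := by
      rw [← IsLocalRing.map_maximalIdeal_of_surjective (Ideal.Quotient.mk (Ideal.span {x})) Ideal.Quotient.mk_surjective,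
        Ideal.map_map, hcomp, ← Ideal.map_map, hmax,
        IsLocalRing.map_maximalIdeal_of_surjective _ Ideal.Quotient.mk_surjective]
    obtain ⟨e, he⟩ := Basic.exists_natCast_ringKrullDim (A := B')
    have hlt : e < s := by
      have := ringKrullDim_quotient_span_singleton_succ_eq_ringKrullDim hregB hxB
      rw [he, hs] at this
      have h' : e + 1 = s := by exact_mod_cast this
      omega
    exact (Basic.gorenstein_quotient_iff hxA hregA).2
      (ih e hlt A' B' hpure' hmax' he ((Basic.gorenstein_quotient_iff hxB hregB).1 hB))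

/-- Gorenstein descends along pure unramified local maps. -/
theorem gorenstein {A B : Type u} [CommRing A] [IsLocalRing A] [IsNoetherianRing A] [CommRing B]
    [Algebra A B] [hB : LocCoh.IsGorensteinLocalRing B]
    (hpure : ∀ (I : Ideal A) (a : A), algebraMap A B a ∈ I.map (algebraMap A B) → a ∈ I)
    (hmax : (maximalIdeal A).map (algebraMap A B) = maximalIdeal B) : LocCoh.IsGorensteinLocalRing A := by
  obtain ⟨s, hs⟩ := Basic.exists_natCast_ringKrullDim (A := B)
  exact gorenstein_aux s A B hpure hmax hs hB

end Groth.Agent.Gor.PureDescent
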